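import Cfsg.Agent.Lib.J4M24.Main
import Cfsg.Agent.Lib.Schur.GolaySearch

/-!
Elements of order 23 and 11 in the copy of the largest Mathieu group inside the presented fourth Janko group:
their centralisers, and an injection of the permutation group.
-/
set_option autoImplicit false
set_option maxRecDepth 20000

namespace CfsgLib.J4Out

open Cfsg CfsgLib.Presented CfsgLib.Presented.J4M24 CfsgLib.Schur.GolaySearch CfsgLib.Golay

/-- the word of the element of order 11 -/
def wordB : List ℕ := [1, 0, 1, 0, 1, 0, 2, 0, 2, 0, 2, 0, 2, 0, 2, 0, 1, 0, 1, 0, 1, 0, 1, 0, 1, 0, 2, 0, 2, 0, 1, 0, 1, 0, 1, 0, 2, 0, 2, 0, 1, 0, 1, 0, 1, 0, 2]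

/-- the word of an element permuting the powers of the element of order 11 transitively -/
def wordNu : List ℕ := [0, 1, 0, 2, 0, 2, 0, 1, 0, 1, 0, 1, 0, 1, 0, 1, 0, 2, 0, 2, 0, 2, 0, 1, 0, 2, 0, 2, 0, 2, 0, 1, 0, 2, 0, 2, 0, 2, 0, 2, 0, 2, 0, 2, 0, 1]

/-- the element of order 23 on points -/
def pA : Equiv.Perm GolayPt := evW (ev2 ptX ptY) [0, 1]

/-- the element of order 11 on points -/
def pB : Equiv.Perm GolayPt := evW (ev2 ptX ptY) wordB

/-- the transitive normaliser element on points -/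
def pNu : Equiv.Perm GolayPt := evW (ev2 ptX ptY) wordNu

/-- the table of `pA` -/
def tblA : List ℕ := [10, 9, 5, 13, 6, 16, 7, 20, 14, 17, 12, 21, 23, 15, 0, 11, 18, 3, 19, 4, 1, 8, 22, 2]
/-- the table of `pB` -/
def tblB : List ℕ := [2, 5, 14, 18, 6, 17, 23, 11, 15, 8, 21, 4, 1, 0, 7, 3, 19, 9, 10, 13, 20, 12, 22, 16]

/-- search stages for the centraliser of `pA` -/
def stagesA : List Stage := [([0, 10, 12, 23, 2, 5, 16, 18, 19, 4, 6, 7, 20, 1, 9, 17, 3, 13, 15, 11, 21, 8, 14], [9347075, 1302533, 11100169, 10170384, 11952160, 2854977, 2019456, 4038912, 12325377, 11654144, 2422785], [0, 1, 2, 3, 4, 5, 6, 7, 8, 9, 10, 11, 12, 13, 14, 15, 16, 17, 18, 19, 20, 21, 22, 23]), ([22], [13062145], [0, 1, 2, 3, 4, 5, 6, 7, 8, 9, 10, 11, 12, 13, 14, 15, 16, 17, 18, 19, 20, 21, 22, 23])]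
/-- search stages for the centraliser of `pB` -/
def stagesB : List Stage := [([0, 2, 14, 7, 11, 4, 6, 23, 16, 19, 13], [], [0, 1, 2, 3, 4, 5, 6, 7, 8, 9, 10, 11, 12, 13, 14, 15, 16, 17, 18, 19, 20, 21, 22, 23]), ([1, 5, 17, 9, 8, 15, 3, 18, 10, 21, 12], [9347075, 11100169, 8966165, 10846245, 2854977, 864389, 3031301, 2183687, 10630149, 2422785], [0, 1, 2, 3, 4, 5, 6, 7, 8, 9, 10, 11, 12, 13, 14, 15, 16, 17, 18, 19, 20, 21, 22, 23]), ([20], [1302533], [0, 1, 2, 3, 4, 5, 6, 7, 8, 9, 10, 11, 12, 13, 14, 15, 16, 17, 18, 19, 20, 21, 22, 23]), ([22], [13062145], [0, 1, 2, 3, 4, 5, 6, 7, 8, 9, 10, 11, 12, 13, 14, 15, 16, 17, 18, 19, 20, 21, 22, 23])]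

theorem toList_pA : toList pA = tblA := by decide +kernel
theorem toList_pB : toList pB = tblB := by decide +kernel

theorem evW2_mem (w : List ℕ) : evW (ev2 ptX ptY) w ∈ M24 := by
  induction w with
  | nil => exact M24.one_mem
  | cons a w ih =>
    rw [evW_cons]
    refine M24.mul_mem ?_ ih
    rcases a with _ | _ | _ | a
    · exact ptX_mem
    · exact ptY_mem
    · exact M24.inv_mem ptY_mem
    · exact M24.one_mem

theorem pA_mem : pA ∈ M24 := evW2_mem _

theorem pB_mem : pB ∈ M24 := evW2_mem _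

theorem pNu_mem : pNu ∈ M24 := evW2_mem _

theorem searchA_ok : (stagesOK tblA 0 stagesA &&
    (stagesA.all fun s => s.2.2 == List.range 24) &&
    ((searchImg tblA 0 stagesA (List.replicate 24 0)).all fun l =>
      (List.range 23).any fun i => l == toList (pA ^ i))) = true := by decide +kernel

theorem searchB_ok : (stagesOK tblB 0 stagesB &&
    (stagesB.all fun s => s.2.2 == List.range 24) &&
    ((searchImg tblB 0 stagesB (List.replicate 24 0)).all fun l =>
      (List.range 11).any fun i => l == toList (pB ^ i))) = true := by decide +kernel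

theorem centralizer_of_search {x : Equiv.Perm GolayPt} {lx : List ℕ} {ss : List Stage} {n : ℕ}
    (hx : toList x = lx) (hok : (stagesOK lx 0 ss && (ss.all fun s => s.2.2 == List.range 24) &&
      ((searchImg lx 0 ss (List.replicate 24 0)).all fun l =>
        (List.range n).any fun i => l == toList (x ^ i))) = true)
    {σ : Equiv.Perm GolayPt} (hσ : σ ∈ M24) (h : σ * x * σ⁻¹ = x) : ∃ i : ℕ, σ = x ^ i := by
  simp only [Bool.and_eq_true, List.all_eq_true, List.any_eq_true, beq_iff_eq] at hok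
  obtain ⟨⟨hst, hc⟩, hall⟩ := hok
  have hmem := mem_searchImg_start hσ h hx hx hst fun s hs c hcs => by
    rw [hc s hs, List.mem_range]
    by_cases hc24 : c < (toList σ).length
    · rw [List.getD_eq_getElem _ _ hc24]
      simp only [toList, List.getElem_ofFn]
      exact Fin.isLt _
    · rw [List.getD_eq_default _ _ (not_lt.1 hc24)]
      norm_num
  obtain ⟨i, -, hi⟩ := hall _ hmem
  exact ⟨i, toList_injective hi⟩

theorem centralizer_pA {σ : Equiv.Perm GolayPt} (hσ : σ ∈ M24) (h : σ * pA * σ⁻¹ = pA) :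
    ∃ i : ℕ, σ = pA ^ i := centralizer_of_search toList_pA searchA_ok hσ h

theorem centralizer_pB {σ : Equiv.Perm GolayPt} (hσ : σ ∈ M24) (h : σ * pB * σ⁻¹ = pB) :
    ∃ i : ℕ, σ = pB ^ i := centralizer_of_search toList_pB searchB_ok hσ h

theorem pB_pow_eleven : pB ^ 11 = 1 := toList_injective (by decide +kernel)

theorem pNu_conj : pNu * pB * pNu⁻¹ = pB ^ 6 := toList_injective (by decide +kernel)

theorem ptX_ptY_ne : ptX * ptY ≠ ptY * ptX := fun h => by
  have := congrArg toList h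
  revert this
  decide +kernel

/-- The permutation group is embedded in the presented group, extending `ptX ↦ x`, `ptY ↦ y`. -/
theorem exists_embedding : ∃ f : M24 →* Cfsg.Spor.J4, Function.Injective f ∧
    f ⟨ptX, ptX_mem⟩ = jx ∧ f ⟨ptY, ptY_mem⟩ = jy ∧
    f.range = Subgroup.closure ({jx, jy} : Set Cfsg.Spor.J4) := by
  obtain ⟨φ, hx, hy⟩ := exists_hom j_rels
  obtain ⟨ψ, hψx, hψy⟩ := exists_hom M24_rels
  have : Finite P7 := Nat.finite_of_card_ne_zero card_P7_le.1
  have hsur : Function.Surjective ψ := by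
    rw [← MonoidHom.range_eq_top, eq_top_iff]
    have hle : M24 ≤ ψ.range.map (Subgroup.subtype M24) :=
      M24_le ⟨_, ⟨gx, rfl⟩, by rw [hψx]; rfl⟩ ⟨_, ⟨gy, rfl⟩, by rw [hψy]; rfl⟩
    intro g _
    obtain ⟨g', hg', he⟩ := hle g.2
    rwa [← Subtype.ext he]
  have hbij := hsur.bijective_of_nat_card_le (CfsgLib.Golay.natCard_M24.symm ▸ card_P7_le.2)
  let e := MulEquiv.ofBijective ψ hbij
  refine ⟨φ.comp e.symm.toMonoidHom, ?_, ?_, ?_, ?_⟩
  · have : IsSimpleGroup M24 := CfsgLib.Golay.isSimpleGroup_M24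
    rw [← MonoidHom.ker_eq_bot_iff]
    refine (IsSimpleGroup.eq_bot_or_eq_top_of_normal _ inferInstance).resolve_right fun ht => ?_
    refine jx_ne_one ?_
    have h1 : (⟨ptX, ptX_mem⟩ : M24) ∈ (φ.comp e.symm.toMonoidHom).ker := ht ▸ Subgroup.mem_top _
    have h2 : e.symm ⟨ptX, ptX_mem⟩ = gx := by rw [MulEquiv.symm_apply_eq]; exact hψx.symm
    rw [MonoidHom.mem_ker, MonoidHom.comp_apply, MulEquiv.coe_toMonoidHom, h2, hx] at h1
    exact h1
  · have h2 : e.symm ⟨ptX, ptX_mem⟩ = gx := by rw [MulEquiv.symm_apply_eq]; exact hψx.symm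
    rw [MonoidHom.comp_apply, MulEquiv.coe_toMonoidHom, h2, hx]
  · have h2 : e.symm ⟨ptY, ptY_mem⟩ = gy := by rw [MulEquiv.symm_apply_eq]; exact hψy.symm
    rw [MonoidHom.comp_apply, MulEquiv.coe_toMonoidHom, h2, hy]
  · rw [MonoidHom.range_comp, MonoidHom.range_eq_top.2 e.symm.surjective, ← P7_top, wordGroup,
      MonoidHom.map_closure]
    congr 1
    ext g
    simp [Set.mem_image, evW, ev2, hx, hy, eq_comm]

end CfsgLib.J4Out
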