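import Cfsg.Agent.Lib.Presented.J4Out.Defs

/-! Kernel check that every candidate other than the true one breaks a relation. -/
set_option autoImplicit false
set_option maxRecDepth 20000
set_option Elab.async false

namespace CfsgLib.J4Out

theorem kill_ok₁ : (List.range 121).all killOK = true := by decide +kernel

theorem kill_ok₂ : (List.range' 121 121).all killOK = true := by decide +kernel

theorem kill_ok : (List.range 242).all killOK = true := by
  rw [show List.range 242 = List.range 121 ++ List.range' 121 121 from rfl, List.all_append,
    kill_ok₁, kill_ok₂]
  rfl

end CfsgLib.J4Out
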