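import Cfsg.Agent.Lib.Presented.J4Out.Structure
import Cfsg.Agent.Lib.Presented.J4Out.CheckKill

/-!
Centralisers of the named elements of order 23 and 11 in the presented fourth Janko group, given the points
they fix in the orbit of the vector fixed by `2¹¹:M₂₄`.
-/
set_option autoImplicit false
set_option maxRecDepth 20000

namespace CfsgLib.J4Out

open CfsgLib.Presented CfsgLib.J4Rep CfsgLib.J4Mult CfsgLib.Presented.J4M24 Cfsg Cfsg.Spor
open CfsgLib.Schur.GolaySearch CfsgLib.Golay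

attribute [local irreducible] el emb pA pB

/-- the first special vector -/
def vec0 : Vec112 := ⟨v0, by decide +kernel⟩

/-- the second special vector -/
def vec1 : Vec112 := ⟨v1, by decide +kernel⟩

/-- What is needed from the action on the cosets of `2¹¹:M₂₄`: the stabiliser of the first vector, and the
vectors in its orbit fixed by `a` and by `b`. -/
structure OrbitFacts : Prop where
  stab : ∀ g : J4, rep g vec0 = vec0 → g ∈ Hgrp
  fixA : ∀ g : J4, rep (el 4) (rep g vec0) = rep g vec0 → rep g vec0 = vec0 ∨ rep g vec0 = vec1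
  fixB : ∀ g : J4, rep (el 5) (rep g vec0) = rep g vec0 → ∃ i < 11, (rep g vec0).1 = fixB.getD i 0

theorem vecsOK_spec :
    (∀ k ∈ [0, 1, 6, 7, 8, 9, 10, 11, 12, 13, 14, 15, 16], actM k v0 = v0) ∧ actM 22 v0 = v1 ∧
      v0 ≠ v1 ∧ fixB.getD 0 0 = v0 ∧
      ∀ i < 11, actM 17 (fixB.getD i 0) = fixB.getD ((i + 1) % 11) 0 := by
  have h := vecs_ok
  simp only [vecsOK, Bool.and_eq_true, List.all_eq_true, List.mem_range, Bool.not_eq_true'] at h
  obtain ⟨⟨⟨⟨h1, h2⟩, h3⟩, h4⟩, h5⟩ := h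
  refine ⟨fun k hk => Nat.eq_of_beq_eq_true (h1 k hk), Nat.eq_of_beq_eq_true h2, fun e => ?_,
    Nat.eq_of_beq_eq_true h4, fun i hi => Nat.eq_of_beq_eq_true (h5 i hi).1⟩
  rw [e, Nat.beq_refl] at h3
  exact Bool.noConfusion h3

theorem rep_el_vec0 {k : ℕ} (hk : k ∈ [0, 1, 6, 7, 8, 9, 10, 11, 12, 13, 14, 15, 16]) :
    rep (el k) vec0 = vec0 := by
  refine Subtype.ext ((hasMat_el ?_ vec0).trans (vecsOK_spec.1 k hk))
  simp only [List.mem_cons, List.not_mem_nil, or_false] at hk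
  omega

theorem rep_el_n : rep (el 22) vec0 = vec1 :=
  Subtype.ext ((hasMat_el (by norm_num) vec0).trans vecsOK_spec.2.1)

theorem vec0_ne_vec1 : vec0 ≠ vec1 := fun h => vecsOK_spec.2.2.1 (congrArg Subtype.val h)

theorem rep_el_c_pow : ∀ i, i < 11 → (rep (el 17 ^ i) vec0).1 = fixB.getD i 0
  | 0, _ => by rw [pow_zero (el 17), map_one, vecsOK_spec.2.2.2.1]; rfl
  | i + 1, hi => by
    rw [pow_succ' (el 17), map_mul, Equiv.Perm.mul_apply, hasMat_el (by norm_num), rep_el_c_pow i (by omega),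
      vecsOK_spec.2.2.2.2 i (by omega), Nat.mod_eq_of_lt hi]

theorem searchA_inv_ok : (searchImg (toList (pA ^ 22)) 0 stagesA (List.replicate 24 0)).length = 0 := by
  decide +kernel

theorem not_conj_inv_pA {σ : Equiv.Perm GolayPt} (hσ : σ ∈ M24) : σ * pA * σ⁻¹ ≠ pA ^ 22 := by
  intro h
  have hok := searchA_ok
  simp only [Bool.and_eq_true, List.all_eq_true, beq_iff_eq] at hok
  have hmem := mem_searchImg_start hσ h toList_pA rfl hok.1.1 fun s hs c hcs => by
    rw [hok.1.2 s hs, List.mem_range]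
    by_cases hc24 : c < (toList σ).length
    · rw [List.getD_eq_getElem _ _ hc24]
      simp only [toList, List.getElem_ofFn]
      exact Fin.isLt _
    · rw [List.getD_eq_default _ _ (not_lt.1 hc24)]
      norm_num
  rw [List.eq_nil_of_length_eq_zero searchA_inv_ok] at hmem
  simp at hmem

theorem eval_eqs (hs : IsSimpleGroup J4) :
    el 4 * el 19 = 1 ∧ el 4 ^ 23 = 1 ∧ el 5 ^ 11 = 1 ∧ el 17 ^ 11 = 1 ∧
      el 17 * el 5 = el 5 * el 17 ∧ el 18 * el 5 = el 5 * el 18 ∧
      el 22 * el 4 = el 4 ^ 22 * el 22 ∧ el 5 * el 4 = el 4 ^ 16 * el 5 := by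
  have hk : ∀ p ∈ ([([4, 19], []), (List.replicate 23 4, []), (List.replicate 11 5, []),
      (List.replicate 11 17, []), ([17, 5], [5, 17]), ([18, 5], [5, 18]),
      ([22, 4], List.replicate 22 4 ++ [22]), ([5, 4], List.replicate 16 4 ++ [5])] :
      List (List ℕ × List ℕ)), p ∈ eqs := by decide +kernel
  simp only [List.forall_mem_cons, List.not_mem_nil, IsEmpty.forall_iff, implies_true, and_true] at hk
  obtain ⟨h1, h2, h3, h4, h5, h6, h7, h8⟩ := hk
  have hrep : ∀ (k n : ℕ), evW el (List.replicate n k) = el k ^ n := fun k n => by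
    induction n with
    | zero => simp
    | succ n ih => rw [List.replicate_succ, evW_cons, ih, pow_succ']
  refine ⟨?_, ?_, ?_, ?_, ?_, ?_, ?_, ?_⟩
  · simpa [evW] using el_eq hs h1
  · have := el_eq hs h2
    rwa [hrep, evW_nil] at this
  · have := el_eq hs h3
    rwa [hrep, evW_nil] at this
  · have := el_eq hs h4
    rwa [hrep, evW_nil] at this
  · simpa [evW] using el_eq hs h5
  · simpa [evW] using el_eq hs h6
  · have := el_eq hs h7
    rw [evW_append, hrep] at this
    simpa [evW] using this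
  · have := el_eq hs h8
    rw [evW_append, hrep] at this
    simpa [evW] using this

/-- Elements of `Egrp` commuting with `a` are trivial: `e ↦ a e a⁻¹ e` is onto. -/
theorem eq_one_of_commute_a [Finite J4] (hs : IsSimpleGroup J4) {e : J4} (he : e ∈ Egrp)
    (hc : Commute (el 4) e) : e = 1 := by
  have hk : ∀ k ∈ List.range' 6 11, ∃ p ∈ eqs, p.2 = [k] ∧
      p.1 = 4 :: (p.1.take (p.1.length / 2)).tail ++ [19] ++ (p.1.take (p.1.length / 2)).tail ∧
        ∀ x ∈ (p.1.take (p.1.length / 2)).tail, 6 ≤ x ∧ x ≤ 16 := by decide +kernel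
  have ha : el 4 ∈ Mgrp := by rw [el_four, ← emb_range]; exact ⟨_, rfl⟩
  have ha19 : el 19 = (el 4)⁻¹ := (inv_eq_of_mul_eq_one_right (eval_eqs hs).1).symm
  let δ : Egrp →* Egrp :=
    { toFun := fun u => ⟨el 4 * u.1 * (el 4)⁻¹, (conj_mem_Egrp hs ha _ u.2).1⟩ * u
      map_one' := Subtype.ext (by simp)
      map_mul' := fun u v => Subtype.ext (by
        have h := Egrp_comm hs (conj_mem_Egrp hs ha _ v.2).1 u.2
        simp only [Subgroup.coe_mul]
        calc el 4 * (u.1 * v.1) * (el 4)⁻¹ * (u.1 * v.1)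
            = el 4 * u.1 * (el 4)⁻¹ * (el 4 * v.1 * (el 4)⁻¹ * u.1) * v.1 := by group
          _ = el 4 * u.1 * (el 4)⁻¹ * u.1 * (el 4 * v.1 * (el 4)⁻¹ * v.1) := by rw [h]; group) }
  have hsur : Function.Surjective δ := by
    rw [← MonoidHom.range_eq_top, eq_top_iff]
    have hle : Egrp ≤ δ.range.map Egrp.subtype := by
      conv_lhs => rw [Egrp]
      rw [Subgroup.closure_le]
      rintro _ ⟨k, hk', rfl⟩
      obtain ⟨p, hp, h2, h1, hut⟩ := hk k (mem_range6 hk'.1 hk'.2)
      have heq := el_eq hs hp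
      rw [h1, h2] at heq
      generalize (p.1.take (p.1.length / 2)).tail = u at heq hut
      refine ⟨δ ⟨evW el u, evW_mem_Egrp hut⟩, ⟨_, rfl⟩, ?_⟩
      show el 4 * evW el u * (el 4)⁻¹ * evW el u = el k
      simpa [evW_append, ha19, mul_assoc] using heq
    intro g _
    obtain ⟨g', hg', hgg⟩ := hle g.2
    rwa [← Subtype.ext hgg]
  have hinj : Function.Injective δ := Finite.injective_iff_surjective.2 hsur
  have h1 : δ ⟨e, he⟩ = δ 1 := by
    rw [map_one]
    refine Subtype.ext ?_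
    show el 4 * e * (el 4)⁻¹ * e = 1
    rw [hc.eq, mul_inv_cancel_right, Egrp_sq hs he]
  exact congrArg Subtype.val (hinj h1)

/-- Elements of `Egrp` commuting with `b` are powers of `e₀`. -/
theorem eq_pow_of_commute_b (hs : IsSimpleGroup J4) {e : J4} (he : e ∈ Egrp) (hc : Commute e (el 5)) :
    ∃ k < 2, e = el 18 ^ k := by
  have hk : ∀ k ∈ List.range' 6 11, ((List.replicate 11 [k, 5]).flatten, []) ∈ eqs ∨
      ((List.replicate 11 [k, 5]).flatten, [18]) ∈ eqs := by decide +kernel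
  have hb : el 5 ∈ Mgrp := by rw [el_five, ← emb_range]; exact ⟨_, rfl⟩
  have hfl : ∀ (k n : ℕ), evW el (List.replicate n [k, 5]).flatten = (el k * el 5) ^ n := fun k n => by
    induction n with
    | zero => simp
    | succ n ih =>
      rw [List.replicate_succ, List.flatten_cons, evW_append, ih, pow_succ']
      simp [evW]
  have h := norm_mem hs hb (eval_eqs hs).2.2.1 (T := Subgroup.zpowers (el 18)) (fun k h1 h2 => by
    rcases hk k (mem_range6 h1 h2) with h | h
    · have := el_eq hs h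
      rw [hfl] at this
      rw [this]; exact one_mem _
    · have := el_eq hs h
      rw [hfl] at this
      rw [this]; simp [evW]) he
  rw [eq_norm hs he (by decide) (eval_eqs hs).2.2.1 hc] at h
  have hsq : el 18 ^ 2 = 1 := by
    have hn := el_node (n := 14) (by norm_num)
    have hw : ∀ x ∈ prog.getD 14 [], 6 ≤ x ∧ x ≤ 16 := by decide +kernel
    rw [hn, pow_two]
    exact Egrp_sq hs (evW_mem_Egrp hw)
  obtain ⟨z, rfl⟩ := Subgroup.mem_zpowers_iff.1 h
  refine ⟨(z % 2).toNat, by omega, ?_⟩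
  conv_lhs => rw [← Int.emod_add_mul_ediv z 2, zpow_add, zpow_mul, zpow_ofNat, hsq, one_zpow, mul_one]
  rw [← zpow_natCast, Int.toNat_of_nonneg (Int.emod_nonneg _ (by norm_num))]

theorem mem_Mgrp_emb {σ : Equiv.Perm GolayPt} (hσ : σ ∈ M24) :
    emb ⟨σ, hσ⟩ ∈ Mgrp := emb_range ▸ ⟨_, rfl⟩

/-- Splitting a commutation in `2¹¹:M₂₄`. -/
theorem split_conj (hs : IsSimpleGroup J4) {g : J4} (hg : g ∈ Hgrp) {a a' : J4} (ha : a ∈ Mgrp)
    (ha' : a' ∈ Mgrp) (h : g * a * g⁻¹ = a') :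
    ∃ e ∈ Egrp, ∃ m ∈ Mgrp, g = e * m ∧ m * a * m⁻¹ = a' ∧ Commute e a' := by
  obtain ⟨e, he, m, hm, rfl⟩ := Hgrp_decomp hs hg
  have h1 : m * a * m⁻¹ = e⁻¹ * a' * e := by rw [← h]; group
  have hd : m * a * m⁻¹ * a'⁻¹ = 1 := by
    refine eq_one_of_mem_both hs ?_ (mul_mem (mul_mem (mul_mem hm ha) (inv_mem hm)) (inv_mem ha'))
    rw [h1]
    have := mul_mem (inv_mem he) (conj_mem_Egrp hs ha' e he).1
    simpa [mul_assoc] using this
  refine ⟨e, he, m, hm, rfl, mul_inv_eq_one.1 hd, ?_⟩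
  rw [mul_inv_eq_one.1 hd] at h1
  exact (show e * a' = a' * e by
    calc e * a' = e * (e⁻¹ * a' * e) := by rw [← h1]
      _ = a' * e := by group)

variable [Finite J4]

theorem centralizer_a (hs : IsSimpleGroup J4) (hO : OrbitFacts) {x : J4}
    (hx : x * el 4 * x⁻¹ = el 4) : ∃ i : ℕ, x = el 4 ^ i := by
  have hfix : rep (el 4) (rep x vec0) = rep x vec0 := by
    have h1 : el 4 * x = x * el 4 := (mul_inv_eq_iff_eq_mul.1 hx).symm
    have h4 : rep (el 4) vec0 = vec0 := by
      rw [el_node (n := 0) (by norm_num)]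
      show rep (evW el [0, 1]) vec0 = vec0
      simp [evW, rep_el_vec0]
    rw [← Equiv.Perm.mul_apply, ← map_mul, h1, map_mul, Equiv.Perm.mul_apply, h4]
  have ha : el 4 ∈ Mgrp := by rw [el_four]; exact mem_Mgrp_emb _
  rcases hO.fixA x hfix with h | h
  · obtain ⟨e, he, m, hm, rfl, hma, hea⟩ := split_conj hs (hO.stab x h) ha ha hx
    rw [eq_one_of_commute_a hs he hea.symm, one_mul]
    rw [← emb_range] at hm
    obtain ⟨σ, rfl⟩ := hm
    rw [el_four, ← map_inv, ← map_mul, ← map_mul] at hma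
    obtain ⟨i, hi⟩ := centralizer_pA σ.2 (congrArg Subtype.val (emb_injective hma))
    refine ⟨i, ?_⟩
    rw [el_four, ← map_pow]
    exact congrArg emb (Subtype.ext hi)
  · exfalso
    have hn : (el 22)⁻¹ * el 4 * el 22 = el 4 ^ 22 := by
      obtain ⟨-, h23, -, -, -, -, hn, -⟩ := eval_eqs hs
      have h1 : el 22 * el 4 * (el 22)⁻¹ = el 4 ^ 22 := mul_inv_eq_iff_eq_mul.2 hn
      have h2 : el 22 * el 4 ^ 22 * (el 22)⁻¹ = el 4 := by
        rw [← conj_pow, h1, ← pow_mul]
        calc el 4 ^ (22 * 22) = el 4 ^ (1 + 23 * 21) := congrArg (el 4 ^ ·) (by norm_num)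
          _ = el 4 := by rw [pow_add, pow_one, pow_mul, h23, one_pow, mul_one]
      calc (el 22)⁻¹ * el 4 * el 22 = (el 22)⁻¹ * (el 22 * el 4 ^ 22 * (el 22)⁻¹) * el 22 := by rw [h2]
        _ = el 4 ^ 22 := by group
    have hst : rep ((el 22)⁻¹ * x) vec0 = vec0 := by
      rw [map_mul, Equiv.Perm.mul_apply, h, map_inv, Equiv.Perm.inv_eq_iff_eq, rep_el_n]
    have hc : ((el 22)⁻¹ * x) * el 4 * ((el 22)⁻¹ * x)⁻¹ = el 4 ^ 22 := by
      calc ((el 22)⁻¹ * x) * el 4 * ((el 22)⁻¹ * x)⁻¹ = (el 22)⁻¹ * (x * el 4 * x⁻¹) * el 22 := by group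
        _ = el 4 ^ 22 := by rw [hx, hn]
    obtain ⟨e, he, m, hm, -, hma, -⟩ := split_conj hs (hO.stab _ hst) ha (pow_mem ha 22) hc
    rw [← emb_range] at hm
    obtain ⟨σ, rfl⟩ := hm
    rw [el_four, ← map_inv, ← map_mul, ← map_mul, ← map_pow] at hma
    exact not_conj_inv_pA σ.2 (congrArg Subtype.val (emb_injective hma))

omit [Finite J4] in
theorem centralizer_b (hs : IsSimpleGroup J4) (hO : OrbitFacts) {x : J4}
    (hx : x * el 5 * x⁻¹ = el 5) :
    ∃ i < 11, ∃ j < 11, ∃ k < 2, x = evW el (cWord i j k) := by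
  have hb : el 5 ∈ Mgrp := by rw [el_five]; exact mem_Mgrp_emb _
  have hfix : rep (el 5) (rep x vec0) = rep x vec0 := by
    have h1 : el 5 * x = x * el 5 := (mul_inv_eq_iff_eq_mul.1 hx).symm
    have h5 : rep (el 5) vec0 = vec0 := by
      rw [el_node (n := 1) (by norm_num)]
      have hw : ∀ a ∈ prog.getD 1 [], a ∈ [0, 1, 2] := by decide +kernel
      have h2 : rep (el 2) vec0 = vec0 := by
        rw [el_two, ← el_one, map_inv, Equiv.Perm.inv_eq_iff_eq, rep_el_vec0 (by simp)]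
      revert hw
      generalize prog.getD 1 [] = w
      intro hw
      induction w with
      | nil => simp
      | cons a w ih =>
        rw [evW_cons, map_mul, Equiv.Perm.mul_apply, ih fun b hb => hw b (List.mem_cons_of_mem _ hb)]
        have := hw a List.mem_cons_self
        simp only [List.mem_cons, List.not_mem_nil, or_false] at this
        rcases this with rfl | rfl | rfl
        · exact rep_el_vec0 (by simp)
        · exact rep_el_vec0 (by simp)
        · exact h2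
    rw [← Equiv.Perm.mul_apply, ← map_mul, h1, map_mul, Equiv.Perm.mul_apply, h5]
  obtain ⟨i, hi, hiv⟩ := hO.fixB x hfix
  have hst : rep ((el 17 ^ i)⁻¹ * x) vec0 = vec0 := by
    rw [map_mul, Equiv.Perm.mul_apply, map_inv, Equiv.Perm.inv_eq_iff_eq]
    exact Subtype.ext (hiv.trans (rep_el_c_pow i hi).symm)
  obtain ⟨-, -, h511, -, hcb, h18, -, -⟩ := eval_eqs hs
  have hci : Commute (el 17 ^ i) (el 5) := (show Commute (el 17) (el 5) from hcb).pow_left i
  have hc : ((el 17 ^ i)⁻¹ * x) * el 5 * ((el 17 ^ i)⁻¹ * x)⁻¹ = el 5 := by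
    calc ((el 17 ^ i)⁻¹ * x) * el 5 * ((el 17 ^ i)⁻¹ * x)⁻¹
        = (el 17 ^ i)⁻¹ * (x * el 5 * x⁻¹) * el 17 ^ i := by group
      _ = el 5 := by rw [hx, hci.inv_left.eq, inv_mul_cancel_right]
  obtain ⟨e, he, m, hm, hxe, hmb, heb⟩ := split_conj hs (hO.stab _ hst) hb hb hc
  obtain ⟨k, hk, rfl⟩ := eq_pow_of_commute_b hs he heb
  rw [← emb_range] at hm
  obtain ⟨σ, rfl⟩ := hm
  rw [el_five, ← map_inv, ← map_mul, ← map_mul] at hmb
  obtain ⟨j, hj⟩ := centralizer_pB σ.2 (congrArg Subtype.val (emb_injective hmb))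
  have hσ : emb σ = el 5 ^ (j % 11) := by
    rw [← pow_eq_pow_mod j h511, el_five, ← map_pow]
    exact congrArg emb (Subtype.ext hj)
  refine ⟨i, hi, j % 11, Nat.mod_lt _ (by norm_num), k, hk, ?_⟩
  have hrep : ∀ (l n : ℕ), evW el (List.replicate n l) = el l ^ n := fun l n => by
    induction n with
    | zero => simp
    | succ n ih => rw [List.replicate_succ, evW_cons, ih, pow_succ']
  have hcm : Commute (el 18 ^ k) (el 5 ^ (j % 11)) := (show Commute (el 18) (el 5) from h18).pow_pow _ _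
  rw [cWord, evW_append, evW_append, hrep, hrep, hrep]
  calc x = el 17 ^ i * ((el 17 ^ i)⁻¹ * x) := by group
    _ = el 17 ^ i * (el 18 ^ k * el 5 ^ (j % 11)) := by rw [hxe, hσ]
    _ = el 17 ^ i * el 5 ^ (j % 11) * el 18 ^ k := by rw [hcm.eq, mul_assoc]

end CfsgLib.J4Out
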