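import Cfsg.Agent.Lib.Presented.J4Out.Defs

/-! Kernel check of the first defining words. -/
set_option autoImplicit false
set_option maxRecDepth 20000
set_option Elab.async false

namespace CfsgLib.J4Out

theorem nodes_okA : (List.range 13).all nodeOK = true := by decide +kernel

theorem blocks_ok : blocksOK = true := by decide +kernel

theorem vecs_ok : vecsOK = true := by decide +kernel

end CfsgLib.J4Out
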