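import Cfsg.Agent.Lib.Presented.J4Out.Defs

/-! Kernel check of the other defining words. -/
set_option autoImplicit false
set_option maxRecDepth 20000
set_option Elab.async false

namespace CfsgLib.J4Out

theorem nodes_okB : (List.range' 13 17).all nodeOK = true := by decide +kernel

theorem base_ok : baseOK = true := by decide +kernel

end CfsgLib.J4Out
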