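import Mathlib.Data.List.Basic

/-! Generated words for the automorphisms of the presented fourth Janko group. Elements: `0` is `x`, `1` is `y`,
`2` is the inverse of `y`, `3` is `t`; element `k + 4` is the value of the `k`-th word of `prog`: `a`, `b`, a
basis of the normal subgroup of order `2 ^ 11` (6 to 16), `c`, `e₀`, the inverses of `a`, `b`, `c`, `n` (22), and
auxiliary products of `a`, `b`, `c`. -/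
set_option autoImplicit false
set_option maxRecDepth 20000

namespace CfsgLib.J4Out

/-- defining words -/
def prog : List (List ℕ) := [[0, 1],
  [1, 0, 1, 0, 1, 0, 2, 0, 2, 0, 2, 0, 2, 0, 2, 0, 1, 0, 1, 0, 1, 0, 1, 0, 1, 0, 2, 0, 2, 0, 1, 0, 1, 0, 1, 0, 2, 0, 2, 0, 1, 0, 1, 0, 1, 0, 2],
  [1, 0, 1, 0, 2, 0, 2, 0, 2, 0, 2, 3, 1, 0, 1, 0, 1, 0, 1, 0, 2, 0, 1, 0, 1, 0, 2, 0, 2, 0, 2, 0, 2, 3, 1, 0, 1, 0, 1, 0, 1, 0, 2, 0, 1, 0, 1, 0, 2, 0, 2, 0, 2, 0, 2, 3, 1, 0, 1, 0, 1, 0, 1, 0, 2, 0],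
  [0, 6, 0],
  [1, 7, 2],
  [0, 8, 0],
  [1, 8, 2],
  [1, 9, 2],
  [0, 10, 0],
  [0, 11, 0],
  [1, 11, 2],
  [1, 13, 2],
  [0, 14, 0],
  [1, 0, 1, 0, 2, 3, 2, 3, 2, 3, 2, 3, 1, 0, 2, 0, 1, 0, 2, 0, 1, 0, 2, 3, 0, 2, 3, 6, 7, 10, 13, 2, 0, 1, 0, 2, 0, 2, 0, 1, 0, 1, 0, 1, 0, 1, 0, 1, 0, 2, 0, 2, 0, 2, 0, 1, 0, 2, 0, 1, 0, 1, 0, 1, 0, 1, 0, 1, 0],
  [6, 7, 9, 13, 14, 15, 16],
  [2, 0],
  [1, 0, 2, 0, 2, 0, 2, 0, 1, 0, 1, 0, 2, 0, 2, 0, 2, 0, 1, 0, 1, 0, 2, 0, 2, 0, 2, 0, 2, 0, 2, 0, 1, 0, 1, 0, 1, 0, 1, 0, 1, 0, 2, 0, 2, 0, 2],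
  [0, 2, 0, 2, 0, 2, 0, 2, 0, 2, 0, 1, 0, 2, 0, 1, 0, 1, 0, 1, 0, 2, 0, 2, 0, 2, 0, 2, 0, 2, 0, 1, 0, 1, 0, 2, 0, 1, 13, 10, 7, 6, 3, 1, 0, 3, 1, 0, 2, 0, 1, 0, 2, 0, 1, 0, 2, 3, 1, 3, 1, 3, 1, 3, 1, 0, 2, 0, 2],
  [3, 2, 3, 2, 0, 3, 1, 3, 1, 3, 0, 2, 3, 1, 3, 1, 3, 2, 0, 1, 3, 2, 3, 11, 14, 15, 16, 0, 1, 0, 1, 0, 2, 0, 2, 0, 1, 0, 1, 0, 1, 0, 2, 0, 1, 0, 2, 0, 1, 0, 2, 0, 1, 0, 1, 0, 1, 0, 1, 0, 1, 0, 1, 0, 1, 0, 1, 0, 2, 0, 2, 0, 1, 0, 2],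
  [21, 19, 21, 5, 5, 4, 17, 4, 17, 19, 21, 5, 4, 17],
  [21, 21, 21, 21, 4, 17, 17, 17, 17],
  [21, 19, 20, 17, 4, 21, 19, 21, 19, 20, 20, 17, 4, 17],
  [21, 4, 20, 20, 20, 19, 19, 17],
  [21, 4, 4, 4, 5, 5, 19, 17],
  [21, 21, 21, 21, 19, 17, 17, 17, 17],
  [21, 4, 20, 19, 20, 20, 4, 17],
  [21, 19, 5, 5, 4, 5, 19, 17],
  [21, 4, 4, 5, 5, 5, 19, 17],
  [21, 19, 19, 19, 5, 5, 4, 17],
  [21, 19, 20, 20, 4, 4, 4, 17]]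

/-- short equations between named elements -/
def eqsShort : List (List ℕ × List ℕ) := [([6, 7], [7, 6]),
  ([6, 8], [8, 6]),
  ([6, 9], [9, 6]),
  ([6, 10], [10, 6]),
  ([6, 11], [11, 6]),
  ([6, 12], [12, 6]),
  ([6, 13], [13, 6]),
  ([6, 14], [14, 6]),
  ([6, 15], [15, 6]),
  ([6, 16], [16, 6]),
  ([7, 8], [8, 7]),
  ([7, 9], [9, 7]),
  ([7, 10], [10, 7]),
  ([7, 11], [11, 7]),
  ([7, 12], [12, 7]),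
  ([7, 13], [13, 7]),
  ([7, 14], [14, 7]),
  ([7, 15], [15, 7]),
  ([7, 16], [16, 7]),
  ([8, 9], [9, 8]),
  ([8, 10], [10, 8]),
  ([8, 11], [11, 8]),
  ([8, 12], [12, 8]),
  ([8, 13], [13, 8]),
  ([8, 14], [14, 8]),
  ([8, 15], [15, 8]),
  ([8, 16], [16, 8]),
  ([9, 10], [10, 9]),
  ([9, 11], [11, 9]),
  ([9, 12], [12, 9]),
  ([9, 13], [13, 9]),
  ([9, 14], [14, 9]),
  ([9, 15], [15, 9]),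
  ([9, 16], [16, 9]),
  ([10, 11], [11, 10]),
  ([10, 12], [12, 10]),
  ([10, 13], [13, 10]),
  ([10, 14], [14, 10]),
  ([10, 15], [15, 10]),
  ([10, 16], [16, 10]),
  ([11, 12], [12, 11]),
  ([11, 13], [13, 11]),
  ([11, 14], [14, 11]),
  ([11, 15], [15, 11]),
  ([11, 16], [16, 11]),
  ([12, 13], [13, 12]),
  ([12, 14], [14, 12]),
  ([12, 15], [15, 12]),
  ([12, 16], [16, 12]),
  ([13, 14], [14, 13]),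
  ([13, 15], [15, 13]),
  ([13, 16], [16, 13]),
  ([14, 15], [15, 14]),
  ([14, 16], [16, 14]),
  ([15, 16], [16, 15]),
  ([6, 6], []),
  ([7, 7], []),
  ([8, 8], []),
  ([9, 9], []),
  ([10, 10], []),
  ([11, 11], []),
  ([12, 12], []),
  ([13, 13], []),
  ([14, 14], []),
  ([15, 15], []),
  ([16, 16], []),
  ([0, 6, 0], [7]),
  ([1, 6, 2], [6]),
  ([0, 7, 0], [6]),
  ([1, 7, 2], [8]),
  ([0, 8, 0], [9]),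
  ([1, 8, 2], [10]),
  ([0, 9, 0], [8]),
  ([1, 9, 2], [11]),
  ([0, 10, 0], [12]),
  ([1, 10, 2], [7]),
  ([0, 11, 0], [13]),
  ([1, 11, 2], [14]),
  ([0, 12, 0], [10]),
  ([1, 12, 2], [7, 9, 10, 12, 14]),
  ([0, 13, 0], [11]),
  ([1, 13, 2], [15]),
  ([0, 14, 0], [16]),
  ([1, 14, 2], [9]),
  ([0, 15, 0], [10, 11, 12, 13, 15]),
  ([1, 15, 2], [6, 7, 8, 11, 15, 16]),
  ([0, 16, 0], [14]),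
  ([1, 16, 2], [7, 10, 11, 13, 14, 15, 16]),
  ([4, 7, 10, 13, 15, 16, 19, 7, 10, 13, 15, 16], [6]),
  ([4, 6, 7, 10, 13, 15, 16, 19, 6, 7, 10, 13, 15, 16], [7]),
  ([4, 7, 8, 11, 12, 14, 15, 19, 7, 8, 11, 12, 14, 15], [8]),
  ([4, 6, 10, 13, 15, 16, 19, 6, 10, 13, 15, 16], [9]),
  ([4, 7, 13, 15, 16, 19, 7, 13, 15, 16], [10]),
  ([4, 7, 8, 10, 14, 15, 19, 7, 8, 10, 14, 15], [11]),
  ([4, 7, 11, 12, 14, 15, 19, 7, 11, 12, 14, 15], [12]),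
  ([4, 6, 9, 10, 13, 15, 16, 19, 6, 9, 10, 13, 15, 16], [13]),
  ([4, 7, 8, 11, 12, 15, 19, 7, 8, 11, 12, 15], [14]),
  ([4, 7, 8, 10, 11, 12, 15, 16, 19, 7, 8, 10, 11, 12, 15, 16], [15]),
  ([4, 7, 8, 10, 11, 14, 15, 19, 7, 8, 10, 11, 14, 15], [16]),
  ([4, 19], []),
  ([5, 20], []),
  ([17, 21], []),
  ([4, 4, 4, 4, 4, 4, 4, 4, 4, 4, 4, 4, 4, 4, 4, 4, 4, 4, 4, 4, 4, 4, 4], []),
  ([5, 5, 5, 5, 5, 5, 5, 5, 5, 5, 5], []),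
  ([17, 17, 17, 17, 17, 17, 17, 17, 17, 17, 17], []),
  ([17, 5], [5, 17]),
  ([18, 5], [5, 18]),
  ([22, 4], [4, 4, 4, 4, 4, 4, 4, 4, 4, 4, 4, 4, 4, 4, 4, 4, 4, 4, 4, 4, 4, 4, 22]),
  ([5, 4], [4, 4, 4, 4, 4, 4, 4, 4, 4, 4, 4, 4, 4, 4, 4, 4, 5])]

/-- long equations between named elements -/
def eqsLong : List (List ℕ × List ℕ) := [([23, 24, 21, 20, 17, 25, 24, 21, 20, 17, 25, 24, 24, 23, 24, 25, 26, 23, 24, 25, 25, 27, 23, 24, 23, 28, 29, 21, 20, 17, 21, 5, 17, 28, 30, 23, 30, 23, 26, 25, 31, 25, 21, 5, 17], [0]),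
  ([28, 23, 24, 21, 20, 17, 26, 25, 25, 24, 21, 20, 17, 23, 21, 5, 17, 28, 21, 20, 17, 32, 25, 28, 30, 30, 23, 31, 23, 23, 33, 28, 21, 20, 17, 21, 5, 17, 24, 21, 20, 17, 25, 21, 5, 17, 28, 23, 23, 31, 21, 5, 17, 28, 25], [1]),
  ([19, 20, 17, 17, 19, 21, 21, 4, 17, 17, 5, 4, 5, 4, 17, 23, 24, 21, 20, 17, 25, 24, 21, 20, 17, 25, 24, 24, 23, 24, 24, 21, 5, 17, 25, 28, 23, 32, 28, 31, 23, 29, 23, 24, 23, 21, 5, 17, 30, 23, 26, 25, 21, 5, 17, 28, 23, 33, 24, 31], [3]),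
  ([6, 5, 6, 5, 6, 5, 6, 5, 6, 5, 6, 5, 6, 5, 6, 5, 6, 5, 6, 5, 6, 5], [18]),
  ([7, 5, 7, 5, 7, 5, 7, 5, 7, 5, 7, 5, 7, 5, 7, 5, 7, 5, 7, 5, 7, 5], []),
  ([8, 5, 8, 5, 8, 5, 8, 5, 8, 5, 8, 5, 8, 5, 8, 5, 8, 5, 8, 5, 8, 5], []),
  ([9, 5, 9, 5, 9, 5, 9, 5, 9, 5, 9, 5, 9, 5, 9, 5, 9, 5, 9, 5, 9, 5], []),
  ([10, 5, 10, 5, 10, 5, 10, 5, 10, 5, 10, 5, 10, 5, 10, 5, 10, 5, 10, 5, 10, 5], []),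
  ([11, 5, 11, 5, 11, 5, 11, 5, 11, 5, 11, 5, 11, 5, 11, 5, 11, 5, 11, 5, 11, 5], []),
  ([12, 5, 12, 5, 12, 5, 12, 5, 12, 5, 12, 5, 12, 5, 12, 5, 12, 5, 12, 5, 12, 5], [18]),
  ([13, 5, 13, 5, 13, 5, 13, 5, 13, 5, 13, 5, 13, 5, 13, 5, 13, 5, 13, 5, 13, 5], []),
  ([14, 5, 14, 5, 14, 5, 14, 5, 14, 5, 14, 5, 14, 5, 14, 5, 14, 5, 14, 5, 14, 5], []),
  ([15, 5, 15, 5, 15, 5, 15, 5, 15, 5, 15, 5, 15, 5, 15, 5, 15, 5, 15, 5, 15, 5], [18]),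
  ([16, 5, 16, 5, 16, 5, 16, 5, 16, 5, 16, 5, 16, 5, 16, 5, 16, 5, 16, 5, 16, 5], [18]),
  ([4, 5, 17, 17, 4, 5, 17, 17, 4, 5, 17, 17, 4, 5, 17, 17, 4, 5, 17, 17, 4, 5, 17, 17, 4, 5, 17, 17, 4, 5, 17, 17, 4, 5, 17, 17, 4, 5, 17, 17], []),
  ([4, 17, 4, 17, 4, 17, 4, 17, 4, 17, 4, 17, 4, 17, 4, 17, 4, 17, 4, 17, 4, 17, 4, 17, 4, 17, 4, 17, 4, 17, 4, 17, 4, 17, 4, 17, 4, 17, 4, 17, 4, 17, 4, 17, 4, 17, 4, 17, 4, 17, 4, 17, 4, 17, 4, 17, 4, 17, 4, 17, 4, 17, 4, 17, 4, 17, 4, 17, 4, 17, 4, 17, 4, 17, 4, 17, 4, 17, 4, 17, 4, 17, 4, 17, 4, 17], []),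
  ([4, 5, 17, 4, 5, 17, 4, 5, 17, 4, 5, 17, 4, 5, 17, 4, 5, 17, 4, 5, 17, 4, 5, 17, 4, 5, 17, 4, 5, 17, 4, 5, 17, 4, 5, 17, 4, 5, 17, 4, 5, 17, 4, 5, 17, 4, 5, 17, 4, 5, 17, 4, 5, 17, 4, 5, 17, 4, 5, 17, 4, 5, 17, 4, 5, 17, 4, 5, 17, 4, 5, 17, 4, 5, 17, 4, 5, 17, 4, 5, 17, 4, 5, 17, 4, 5, 17], [])]

/-- distinguishing relations of `a`, `b`, `c` -/
def relR : List (List ℕ × ℕ) := [([0, 1, 2, 2], 10), ([0, 2], 43), ([0, 1, 2], 29)]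

/-- the vectors fixed by `b` in the orbit of the first one -/
def fixB : List ℕ := [0xffffff,
  0x4962b779c01a2c275bd0d3388414,
  0x2b616362fd188d17b17419716cf4,
  0x249b0dcd45127e5d213e6594c3a0,
  0x15c8ac3f6ddc5b7d28bd190c7cc9,
  0x16e679903892c208d3b3f6daa3bc,
  0x6561f5924b832f08fd55630929b1,
  0x70b2caf39122cec6392d11f50521,
  0x4c739595e0a8545b16fe0712332b,
  0x75713f7b6e7c900957be85237c84,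
  0x831519739967cfbd5b83221e78b2]

/-- the vector fixed by `x`, `y` and the normal subgroup of order `2 ^ 11` -/
def v0 : ℕ := 0xffffff

/-- the second vector fixed by `a` in its orbit -/
def v1 : ℕ := 0x15c8ac3f6ddc5b7d28bd190c7cc9

end CfsgLib.J4Out
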