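import Cfsg.Agent.Lib.Presented.J4Out.Tables
import Cfsg.Agent.Lib.Presented.J4Out.Data
import Cfsg.Agent.Lib.J4Rep.Check

/-!
Executable definitions for the checks on the elements used for the automorphisms of the presented fourth
Janko group.
-/
set_option autoImplicit false
set_option maxRecDepth 20000

namespace CfsgLib.J4Out

open CfsgLib.Presented CfsgLib.J4Rep

/-- the matrix of a named element -/
noncomputable def tabs (k : ℕ) : List ℕ := allTabs.getD k []

/-- entry `a` of a block of packed numbers of 112 bits -/
noncomputable def blockGet (t a : ℕ) : ℕ :=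
  Nat.land (Nat.shiftRight t (Nat.mul 112 a)) 5192296858534827628530496329220095

/-- add up the block sums selected by successive groups of four bits of `v`, starting with bit `i` -/
noncomputable def blockApply (L : List ℕ) : ℕ → ℕ → ℕ :=
  List.rec (motive := fun _ => ℕ → ℕ → ℕ) (fun _ _ => 0)
    (fun t _ ih i v => Nat.xor (blockGet t (Nat.land (Nat.shiftRight v i) 15)) (ih (Nat.add i 4) v)) L

/-- action of a named element -/
noncomputable def actM (k v : ℕ) : ℕ := blockApply (tabs k) 0 v

/-- a block is the table of sums of its four rows -/
noncomputable def blockOK (t : ℕ) : Bool :=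
  (List.range 16).all fun a => Nat.beq (blockGet t a)
    (Nat.xor (cond (a.testBit 0) (blockGet t 1) 0) (Nat.xor (cond (a.testBit 1) (blockGet t 2) 0)
      (Nat.xor (cond (a.testBit 2) (blockGet t 4) 0) (cond (a.testBit 3) (blockGet t 8) 0))))

/-- all blocks are tables of sums -/
noncomputable def blocksOK : Bool := allTabs.all fun L => L.all blockOK

/-- the fast action agrees with the action of a letter on the basis -/
noncomputable def baseOK : Bool :=
  [0, 1, 2, 3].all fun k => (List.range 112).all fun i => Nat.beq (actM k (2 ^ i)) (act k (2 ^ i))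

/-- apply named elements, head first -/
noncomputable def runM : List ℕ → ℕ → ℕ
  | [], v => v
  | x :: w, v => Vec.force v fun u => runM w (actM x u)

/-- one defining word matches its matrix -/
noncomputable def nodeOK (k : ℕ) : Bool :=
  ((prog.getD k []).all fun a => Nat.blt a (k + 4)) &&
    (List.range 112).all fun i => Nat.beq (runM (prog.getD k []).reverse (2 ^ i)) (actM (k + 4) (2 ^ i))

/-- two words have the same matrix -/
noncomputable def eqOK (p : List ℕ × List ℕ) : Bool :=
  (p.1.all fun a => Nat.blt a 34) && (p.2.all fun a => Nat.blt a 34) &&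
    (List.range 112).all fun i => Nat.beq (runM p.1.reverse (2 ^ i)) (runM p.2.reverse (2 ^ i))

/-- the facts about the special vectors -/
noncomputable def vecsOK : Bool :=
  ([0, 1, 6, 7, 8, 9, 10, 11, 12, 13, 14, 15, 16].all fun k => Nat.beq (actM k v0) v0) &&
    (Nat.beq (actM 22 v0) v1) && !(Nat.beq v0 v1) && (Nat.beq (fixB.getD 0 0) v0) &&
    ((List.range 11).all fun i => Nat.beq (actM 17 (fixB.getD i 0)) (fixB.getD ((i + 1) % 11) 0) &&
      ((i == 0) || !(Nat.beq (fixB.getD i 0) v0)))

/-- the candidate with index `(i, j, k)` for the image of `c` -/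
def cWord (i j k : ℕ) : List ℕ := List.replicate i 17 ++ List.replicate j 5 ++ List.replicate k 18

/-- the word of a relation with a candidate in place of `c` -/
def relWord (x : List ℕ) (r : List ℕ × ℕ) : List ℕ :=
  (List.replicate r.2 ((r.1.map fun m => [[4], [5], x].getD m []).flatten)).flatten

/-- a candidate other than `c` breaks a relation -/
noncomputable def killOK (q : ℕ) : Bool :=
  Nat.beq q 22 || relR.any fun r =>
    !(Nat.beq (runM (relWord (cWord (q / 22) (q % 22 / 2) (q % 2)) r).reverse 1) 1)

end CfsgLib.J4Out
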