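import Cfsg.Agent.Lib.Presented.J4Out.CheckProgA
import Cfsg.Agent.Lib.Presented.J4Out.CheckProgB
import Cfsg.Agent.Lib.Presented.J4Out.CheckEqsA
import Cfsg.Agent.Lib.Presented.J4Out.CheckEqsB
import Cfsg.Agent.Lib.Presented.J4Out.CheckEqsC
import Cfsg.Agent.Lib.Presented.J4Out.CheckEqsD
import Cfsg.Agent.Lib.Presented.J4Mult.RepCheck
import Cfsg.Agent.Lib.Presented.J4Cent.Basis

/-!
Named elements of the presented fourth Janko group used for its automorphisms, their matrices, and the
equations between them.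
-/
set_option autoImplicit false
set_option maxRecDepth 20000

namespace CfsgLib.J4Out

open CfsgLib.Presented CfsgLib.J4Rep CfsgLib.J4Mult Cfsg.Spor

theorem nodes_ok : (List.range 30).all nodeOK = true := by
  rw [show List.range 30 = List.range 13 ++ List.range' 13 17 from rfl, List.all_append, nodes_okA, nodes_okB]
  rfl

theorem eqs_ok : (eqsShort ++ eqsLong).all eqOK = true := by
  rw [List.all_append, ← List.take_append_drop 55 eqsShort, List.all_append, eqs_okA, eqs_okB,
    ← List.take_append_drop 8 eqsLong, List.all_append, eqs_okC, eqs_okD]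
  rfl

theorem blockApply_xor : ∀ (L : List ℕ), (∀ t ∈ L, blockOK t = true) → ∀ i u v : ℕ,
    blockApply L i (u ^^^ v) = blockApply L i u ^^^ blockApply L i v
  | [], _, _, _, _ => (Nat.xor_self 0).symm
  | t :: L, h, i, u, v => by
    show blockGet t (((u ^^^ v) >>> i) &&& 15) ^^^ blockApply L (i + 4) (u ^^^ v) =
      (blockGet t ((u >>> i) &&& 15) ^^^ blockApply L (i + 4) u) ^^^
        (blockGet t ((v >>> i) &&& 15) ^^^ blockApply L (i + 4) v)
    rw [blockApply_xor L (fun t ht => h t (List.mem_cons_of_mem _ ht))]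
    have hb := h t List.mem_cons_self
    simp only [blockOK, List.all_eq_true, List.mem_range] at hb
    have hget : ∀ a < 16, blockGet t a = cond (a.testBit 0) (blockGet t 1) 0 ^^^
        (cond (a.testBit 1) (blockGet t 2) 0 ^^^
        (cond (a.testBit 2) (blockGet t 4) 0 ^^^ cond (a.testBit 3) (blockGet t 8) 0)) :=
      fun a ha => Nat.eq_of_beq_eq_true (hb a ha)
    have h16 : ∀ w : ℕ, w &&& 15 < 16 := fun w => Nat.lt_succ_of_le Nat.and_le_right
    rw [hget _ (h16 _), hget _ (h16 (u >>> i)), hget _ (h16 (v >>> i)), Nat.shiftRight_xor_distrib,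
      Nat.and_xor_distrib_right]
    have hc : ∀ (p q : Bool) (r : ℕ), cond (p ^^ q) r 0 = cond p r 0 ^^^ cond q r 0 := by
      intro p q r; cases p <;> cases q <;> simp
    simp only [Nat.testBit_xor, hc]
    ac_rfl

theorem blockOK_tabs (k : ℕ) : ∀ t ∈ tabs k, blockOK t = true := by
  have h := blocks_ok
  simp only [blocksOK, List.all_eq_true] at h
  intro t ht
  by_cases hk : k < allTabs.length
  · rw [tabs, List.getD_eq_getElem _ _ hk] at ht
    exact h _ (List.getElem_mem hk) t ht
  · rw [tabs, List.getD_eq_default _ _ (not_lt.1 hk)] at ht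
    simp at ht

theorem actM_xor (k v w : ℕ) : actM k (v ^^^ w) = actM k v ^^^ actM k w := blockApply_xor _ (blockOK_tabs k) _ _ _

theorem runM_cons (x : ℕ) (w : List ℕ) (v : ℕ) : runM (x :: w) v = runM w (actM x v) := by
  rw [runM, Vec.force_eq]

theorem runM_append : ∀ (u w : List ℕ) (v : ℕ), runM (u ++ w) v = runM w (runM u v)
  | [], _, _ => rfl
  | x :: u, w, v => by rw [List.cons_append, runM_cons, runM_cons, runM_append u w]

theorem runM_xor : ∀ (w : List ℕ) (u v : ℕ), runM w (u ^^^ v) = runM w u ^^^ runM w v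
  | [], _, _ => rfl
  | x :: w, u, v => by rw [runM_cons, runM_cons, runM_cons, actM_xor, runM_xor w]

/-- the first named elements -/
noncomputable def elemsUpTo : ℕ → List J4
  | 0 => [ev4J 0, ev4J 1, ev4J 2, ev4J 3]
  | n + 1 => elemsUpTo n ++ [evW (fun k => (elemsUpTo n).getD k 1) (prog.getD n [])]

/-- a named element -/
noncomputable def el (k : ℕ) : J4 := (elemsUpTo 30).getD k 1

/-- all checked equations -/
def eqs : List (List ℕ × List ℕ) := eqsShort ++ eqsLong

/-- an element is described by a matrix -/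
def HasMat (k : ℕ) (g : J4) : Prop := ∀ v : Vec112, (rep g v).1 = actM k v.1

theorem length_elemsUpTo : ∀ n, (elemsUpTo n).length = n + 4
  | 0 => rfl
  | n + 1 => by rw [elemsUpTo, List.length_append, length_elemsUpTo n]; simp

theorem elemsUpTo_prefix : ∀ {m n : ℕ}, m ≤ n → ∀ k < m + 4,
    (elemsUpTo n).getD k 1 = (elemsUpTo m).getD k 1
  | m, 0, h, k, _ => by rw [Nat.le_zero.1 h]
  | m, n + 1, h, k, hk => by
    rcases Nat.lt_or_eq_of_le h with h' | h'
    · rw [elemsUpTo, List.getD_append _ _ _ _ (by rw [length_elemsUpTo]; omega)]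
      exact elemsUpTo_prefix (by omega) k hk
    · rw [h']

theorem evW_congr {G : Type*} [Group G] {e e' : ℕ → G} :
    ∀ w : List ℕ, (∀ a ∈ w, e a = e' a) → evW e w = evW e' w
  | [], _ => rfl
  | a :: w, h => by
    rw [evW_cons, evW_cons, h a List.mem_cons_self,
      evW_congr w fun b hb => h b (List.mem_cons_of_mem _ hb)]

theorem hasMat_word {l : ℕ → J4} {m : ℕ} (h : ∀ k < m, HasMat k (l k)) :
    ∀ w : List ℕ, (∀ a ∈ w, a < m) → ∀ v : Vec112, (rep (evW l w) v).1 = runM w.reverse v.1
  | [], _, v => by rw [evW_nil, map_one]; rfl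
  | a :: w, hw, v => by
    rw [evW_cons, map_mul, Equiv.Perm.mul_apply, h a (hw a List.mem_cons_self),
      hasMat_word h w (fun b hb => hw b (List.mem_cons_of_mem _ hb)) v, List.reverse_cons, runM_append,
      runM_cons]
    rfl

theorem hasMat_base (k : ℕ) (hk : k < 4) : HasMat k (ev4J k) := by
  intro v
  rw [rep_ev4J, apply_letter hk]
  have h := base_ok
  simp only [baseOK, List.all_eq_true, List.mem_range] at h
  have hm : k ∈ [0, 1, 2, 3] := by simp only [List.mem_cons, List.not_mem_nil, or_false]; omega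
  exact CfsgLib.J4Cent.basis_ext (act_xor k) (actM_xor k)
    (fun i hi => (Nat.eq_of_beq_eq_true (h k hm i hi)).symm) 112 le_rfl _ v.2

theorem hasMat_upTo : ∀ n ≤ 30, ∀ k < n + 4, HasMat k ((elemsUpTo n).getD k 1)
  | 0, _, k, hk => by
    obtain rfl | rfl | rfl | rfl : k = 0 ∨ k = 1 ∨ k = 2 ∨ k = 3 := by omega
    all_goals exact hasMat_base _ (by norm_num)
  | n + 1, hn, k, hk => by
    have ih := hasMat_upTo n (by omega)
    rw [elemsUpTo]
    by_cases hb : k < n + 4
    · rw [List.getD_append _ _ _ _ (by rw [length_elemsUpTo]; exact hb)]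
      exact ih k hb
    · obtain rfl : k = n + 4 := by omega
      rw [List.getD_append_right _ _ _ _ (by rw [length_elemsUpTo]), length_elemsUpTo, Nat.sub_self]
      intro v
      have hok := List.all_eq_true.1 nodes_ok n (List.mem_range.2 (by omega))
      simp only [nodeOK, Bool.and_eq_true, List.all_eq_true, List.mem_range, Nat.blt_eq] at hok
      show (rep (evW _ (prog.getD n [])) v).1 = _
      rw [hasMat_word ih _ hok.1 v]
      exact CfsgLib.J4Cent.basis_ext (runM_xor _) (actM_xor _)
        (fun i hi => Nat.eq_of_beq_eq_true (hok.2 i hi)) 112 le_rfl _ v.2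

theorem hasMat_el {k : ℕ} (hk : k < 34) : HasMat k (el k) := hasMat_upTo 30 le_rfl k hk

theorem rep_evW_el {w : List ℕ} (hw : ∀ a ∈ w, a < 34) (v : Vec112) :
    (rep (evW el w) v).1 = runM w.reverse v.1 :=
  hasMat_word (fun _ hk => hasMat_el hk) w hw v

/-- A named element is the value of its defining word. -/
theorem el_node {n : ℕ} (hn : n < 30) : el (n + 4) = evW el (prog.getD n []) := by
  have hok := List.all_eq_true.1 nodes_ok n (List.mem_range.2 hn)
  simp only [nodeOK, Bool.and_eq_true, List.all_eq_true, Nat.blt_eq] at hok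
  rw [el, elemsUpTo_prefix (Nat.succ_le_of_lt hn) _ (by omega), elemsUpTo,
    List.getD_append_right _ _ _ _ (by rw [length_elemsUpTo]), length_elemsUpTo, Nat.sub_self]
  exact evW_congr _ fun a ha => (elemsUpTo_prefix (le_of_lt hn) a (hok.1 a ha)).symm

/-- The checked equalities hold in the group. -/
theorem el_eq (hs : IsSimpleGroup J4) {p : List ℕ × List ℕ} (hp : p ∈ eqs) :
    evW el p.1 = evW el p.2 := by
  refine rep_injective hs (Equiv.ext fun v => Subtype.ext ?_)
  have hok := List.all_eq_true.1 eqs_ok p hp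
  simp only [eqOK, Bool.and_eq_true, List.all_eq_true, List.mem_range, Nat.blt_eq] at hok
  rw [rep_evW_el hok.1.1, rep_evW_el hok.1.2]
  exact CfsgLib.J4Cent.basis_ext (runM_xor _) (runM_xor _)
    (fun i hi => Nat.eq_of_beq_eq_true (hok.2 i hi)) 112 le_rfl _ v.2

end CfsgLib.J4Out
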