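import Cfsg.Agent.Lib.Presented.J4Out.Mathieu
import Mathlib.GroupTheory.OrderOfElement

/-!
Normalisers of the elements of order 23 and 11 in the permutation group, and the group of order 253
generated by them.
-/
set_option autoImplicit false
set_option maxRecDepth 20000

namespace CfsgLib.J4Out

open Cfsg CfsgLib.Presented CfsgLib.Presented.J4M24 CfsgLib.Schur.GolaySearch CfsgLib.Golay

theorem pA_ne_one : pA ≠ 1 := fun h => by
  have h' := congrArg toList h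
  rw [toList_pA, toList_one] at h'
  revert h'
  decide +kernel

theorem pB_ne_one : pB ≠ 1 := fun h => by
  have h' := congrArg toList h
  rw [toList_pB, toList_one] at h'
  revert h'
  decide +kernel

theorem pA_pow_twentythree : pA ^ 23 = 1 := toList_injective (by decide +kernel)

theorem pB_conj_pA : pB * pA * pB⁻¹ = pA ^ 16 := toList_injective (by decide +kernel)

theorem searchA_neg : (searchImg (toList (pA ^ 22)) 0 stagesA (List.replicate 24 0)).length = 0 := by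
  decide +kernel

attribute [local irreducible] pA pB pNu

theorem pB_pow_conj_pA (r : ℕ) : pB ^ r * pA * (pB ^ r)⁻¹ = pA ^ (16 ^ r) := by
  induction r with
  | zero => simp
  | succ r ih =>
    calc pB ^ (r + 1) * pA * (pB ^ (r + 1))⁻¹
        = pB * (pB ^ r * pA * (pB ^ r)⁻¹) * pB⁻¹ := by rw [pow_succ']; group
      _ = (pB * pA * pB⁻¹) ^ (16 ^ r) := by rw [ih, conj_pow]
      _ = pA ^ (16 ^ (r + 1)) := by rw [pB_conj_pA, ← pow_mul, pow_succ']

theorem pNu_pow_conj_pB (r : ℕ) : pNu ^ r * pB * (pNu ^ r)⁻¹ = pB ^ (6 ^ r) := by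
  induction r with
  | zero => simp
  | succ r ih =>
    calc pNu ^ (r + 1) * pB * (pNu ^ (r + 1))⁻¹
        = pNu * (pNu ^ r * pB * (pNu ^ r)⁻¹) * pNu⁻¹ := by rw [pow_succ']; group
      _ = (pNu * pB * pNu⁻¹) ^ (6 ^ r) := by rw [ih, conj_pow]
      _ = pB ^ (6 ^ (r + 1)) := by rw [pNu_conj, ← pow_mul, pow_succ']

/-- No element inverts the element of order 23. -/
theorem not_conj_pA_neg {σ : Equiv.Perm GolayPt} (hσ : σ ∈ M24) : σ * pA * σ⁻¹ ≠ pA ^ 22 := by
  intro h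
  have hok := searchA_ok
  simp only [Bool.and_eq_true, List.all_eq_true, beq_iff_eq] at hok
  have hmem := mem_searchImg_start hσ h toList_pA rfl hok.1.1 fun s hs c _ => by
    rw [hok.1.2 s hs, List.mem_range]
    by_cases hc24 : c < (toList σ).length
    · rw [List.getD_eq_getElem _ _ hc24]
      simp only [toList, List.getElem_ofFn]
      exact Fin.isLt _
    · rw [List.getD_eq_default _ _ (not_lt.1 hc24)]
      norm_num
  rw [List.eq_nil_of_length_eq_zero searchA_neg] at hmem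
  simp at hmem

/-- The normaliser of the subgroup of order 23. -/
theorem normalizer_pA {σ : Equiv.Perm GolayPt} (hσ : σ ∈ M24) {i : ℕ} (h1 : 1 ≤ i) (h2 : i < 23)
    (h : σ * pA * σ⁻¹ = pA ^ i) : ∃ k r : ℕ, σ = pB ^ r * pA ^ k := by
  have hdec : ∀ i < 23, 1 ≤ i → ∃ r < 11, 16 ^ r % 23 = i ∨ 22 * 16 ^ r % 23 = i := by decide +kernel
  obtain ⟨r, -, hr⟩ := hdec i h2 h1
  have hmem : (pB ^ r)⁻¹ * σ ∈ M24 := M24.mul_mem (M24.inv_mem (M24.pow_mem pB_mem r)) hσ
  have hconj : ∀ t : ℕ, pA ^ (t * 16 ^ r % 23) = pB ^ r * pA ^ t * (pB ^ r)⁻¹ := fun t => by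
    rw [← conj_pow, pB_pow_conj_pA, ← pow_mul, mul_comm (16 ^ r) t,
      ← pow_eq_pow_mod _ pA_pow_twentythree]
  rcases hr with hr | hr
  · obtain ⟨k, hk⟩ := centralizer_pA hmem (by
      rw [← hr, ← one_mul (16 ^ r), hconj 1, pow_one] at h
      calc (pB ^ r)⁻¹ * σ * pA * ((pB ^ r)⁻¹ * σ)⁻¹ = (pB ^ r)⁻¹ * (σ * pA * σ⁻¹) * pB ^ r := by group
        _ = pA := by rw [h]; group)
    exact ⟨k, r, by rw [← hk, mul_inv_cancel_left]⟩
  · exfalso
    refine not_conj_pA_neg hmem ?_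
    rw [← hr, hconj 22] at h
    calc (pB ^ r)⁻¹ * σ * pA * ((pB ^ r)⁻¹ * σ)⁻¹ = (pB ^ r)⁻¹ * (σ * pA * σ⁻¹) * pB ^ r := by group
      _ = pA ^ 22 := by rw [h]; group

/-- The normaliser of the subgroup of order 11. -/
theorem normalizer_pB {σ : Equiv.Perm GolayPt} (hσ : σ ∈ M24) {j : ℕ} (h1 : 1 ≤ j) (h2 : j < 11)
    (h : σ * pB * σ⁻¹ = pB ^ j) : ∃ q r : ℕ, σ = pNu ^ r * pB ^ q := by
  have hdec : ∀ j < 11, 1 ≤ j → ∃ r < 10, 6 ^ r % 11 = j := by decide +kernel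
  obtain ⟨r, -, hr⟩ := hdec j h2 h1
  have hmem : (pNu ^ r)⁻¹ * σ ∈ M24 := M24.mul_mem (M24.inv_mem (M24.pow_mem pNu_mem r)) hσ
  obtain ⟨q, hq⟩ := centralizer_pB hmem (by
    rw [← hr, ← pow_eq_pow_mod _ pB_pow_eleven, ← pNu_pow_conj_pB] at h
    calc (pNu ^ r)⁻¹ * σ * pB * ((pNu ^ r)⁻¹ * σ)⁻¹ = (pNu ^ r)⁻¹ * (σ * pB * σ⁻¹) * pNu ^ r := by group
      _ = pB := by rw [h]; group)
  exact ⟨q, r, by rw [← hq, mul_inv_cancel_left]⟩

theorem frob_injective {k l k' l' : ℕ} (hk : k < 23) (hl : l < 11) (hk' : k' < 23) (hl' : l' < 11)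
    (h : pA ^ k * pB ^ l = pA ^ k' * pB ^ l') : k = k' ∧ l = l' := by
  have hA : orderOf pA = 23 :=
    haveI := Fact.mk (show Nat.Prime 23 by norm_num)
    orderOf_eq_prime pA_pow_twentythree pA_ne_one
  have hB : orderOf pB = 11 :=
    haveI := Fact.mk (show Nat.Prime 11 by norm_num)
    orderOf_eq_prime pB_pow_eleven pB_ne_one
  set y := (pA ^ k')⁻¹ * pA ^ k with hy
  have hy2 : y = pB ^ l' * (pB ^ l)⁻¹ := by
    rw [hy, eq_mul_inv_iff_mul_eq, mul_assoc, h, inv_mul_cancel_left]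
  have h23 : y ^ 23 = 1 := by
    rw [hy, ((Commute.pow_pow_self pA k' k).inv_left).mul_pow, inv_pow, ← pow_mul, ← pow_mul, mul_comm k',
      mul_comm k, pow_mul, pow_mul, pA_pow_twentythree, one_pow, one_pow, inv_one, one_mul]
  have h11 : y ^ 11 = 1 := by
    rw [hy2, ((Commute.pow_pow_self pB l' l).inv_right).mul_pow, inv_pow, ← pow_mul, ← pow_mul, mul_comm l',
      mul_comm l, pow_mul, pow_mul, pB_pow_eleven, one_pow, one_pow, inv_one, one_mul]
  have hy1 : y = 1 := by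
    have := pow_gcd_eq_one.2 ⟨h23, h11⟩
    simpa using this
  refine ⟨?_, ?_⟩
  · rw [hy, inv_mul_eq_one, pow_inj_mod, hA, Nat.mod_eq_of_lt hk', Nat.mod_eq_of_lt hk] at hy1
    exact hy1.symm
  · rw [hy2, mul_inv_eq_one, pow_inj_mod, hB, Nat.mod_eq_of_lt hl', Nat.mod_eq_of_lt hl] at hy1
    exact hy1.symm

theorem frob_to_power {k l : ℕ} (hk : k < 23) (hl : l < 11) (hl0 : l ≠ 0) :
    ∃ m : ℕ, pA ^ m * (pA ^ k * pB ^ l) = pB ^ l * pA ^ m := by
  have hdec : ∀ k < 23, ∀ l < 11, l ≠ 0 → ∃ m < 23, (m + k) % 23 = 16 ^ l * m % 23 := by decide +kernel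
  obtain ⟨m, -, hm⟩ := hdec k hk l hl hl0
  refine ⟨m, ?_⟩
  have h := congrArg (· * pB ^ l) (congrArg (· ^ m) (pB_pow_conj_pA l))
  simp only [conj_pow, inv_mul_cancel_right] at h
  rw [h, ← mul_assoc, ← pow_add, ← pow_mul, pow_eq_pow_mod _ pA_pow_twentythree, hm,
    ← pow_eq_pow_mod _ pA_pow_twentythree]

/-- An element of order 23 in the group of order 253. -/
theorem frob_order23 {k l : ℕ} (hk : k < 23) (hl : l < 11) (h : (pA ^ k * pB ^ l) ^ 23 = 1) : l = 0 := by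
  by_contra hl0
  obtain ⟨m, hm⟩ := frob_to_power hk hl hl0
  have h1 : pB ^ l = pA ^ m * (pA ^ k * pB ^ l) * (pA ^ m)⁻¹ := by rw [hm, mul_inv_cancel_right]
  have h2 : (pB ^ l) ^ 23 = 1 := by rw [h1, conj_pow, h, mul_one, mul_inv_cancel]
  rw [← pow_mul, pow_eq_pow_mod _ pB_pow_eleven] at h2
  have := frob_injective (k := 0) (k' := 0) (l := l * 23 % 11) (l' := 0) (by norm_num)
    (Nat.mod_lt _ (by norm_num)) (by norm_num) (by norm_num) (by rw [pow_zero, one_mul, h2, pow_zero, one_mul])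
  omega

/-- An element of order 11 in the group of order 253. -/
theorem frob_order11 {k l : ℕ} (hk : k < 23) (hl : l < 11) (h : (pA ^ k * pB ^ l) ^ 11 = 1)
    (hne : pA ^ k * pB ^ l ≠ 1) :
    l ≠ 0 ∧ ∃ m : ℕ, pA ^ m * (pA ^ k * pB ^ l) = pB ^ l * pA ^ m := by
  have hl0 : l ≠ 0 := by
    rintro rfl
    rw [pow_zero, mul_one] at h hne
    rw [← pow_mul, pow_eq_pow_mod _ pA_pow_twentythree] at h
    have := frob_injective (k := k * 11 % 23) (k' := 0) (l := 0) (l' := 0) (Nat.mod_lt _ (by norm_num))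
      (by norm_num) (by norm_num) (by norm_num) (by rw [h, pow_zero pA])
    refine hne ?_
    rw [show k = 0 by omega, pow_zero]
  exact ⟨hl0, frob_to_power hk hl hl0⟩

end CfsgLib.J4Out
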