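import Cfsg.Agent.Lib.Presented.J4Out.Defs
import Cfsg.Agent.Lib.Presented.J4Out.Mathieu

/-! Kernel checks of the action of `a`, `b` and a normalising element on the special vectors. -/
set_option autoImplicit false
set_option maxRecDepth 20000

namespace CfsgLib.J4Out

theorem orbit_vecs_ok : (Nat.beq (actM 4 v1) v1 && Nat.beq (actM 5 v1) v1 &&
    fixB.contains v1 && fixB.contains v0 &&
    (fixB.all fun v => Nat.beq (actM 5 v) v && fixB.contains (runM wordNu.reverse v)) &&
    (wordNu.all fun a => Nat.blt a 3)) = true := by decide +kernel

end CfsgLib.J4Out
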