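import Cfsg.Agent.Lib.Presented.J4Out.Points
import Cfsg.Agent.Lib.Presented.J4Out.OrbitsCheck
import Cfsg.Agent.Lib.Presented.J4Out.MathieuNormalizers

/-!
The vectors in the orbit of the first one fixed by `a` and by `b`, from the exact number of cosets.
-/
set_option autoImplicit false
set_option maxRecDepth 20000

namespace CfsgLib.J4Out

open CfsgLib.Presented CfsgLib.J4Rep CfsgLib.J4Mult CfsgLib.Presented.J4M24 Cfsg Cfsg.Spor
open CfsgLib.J4DCE.J (jemb subH cbase cpt Cosets orbM orbUnion sizeSum orbM_card_le)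

attribute [local irreducible] el emb pA pB pNu CfsgLib.J4DCE.enc CfsgLib.J4DCE.pmask CfsgLib.J4DCE.tImg

/-- With all bounds on the orbit sizes added up to the exact total, every bound is attained. -/
theorem orbM_ncard_eq (hidx : Nat.card Cosets = 173067389) {e : ℕ × CfsgLib.J4DCE.Chain × List ℕ × ℕ}
    (he : e ∈ CfsgLib.J4DCE.Top.chains) : (orbM e.1).ncard = e.2.2.2 := by
  refine le_antisymm (orbM_card_le he) (le_of_not_gt fun hlt => ?_)
  have key : ∀ es : List (ℕ × CfsgLib.J4DCE.Chain × List ℕ × ℕ),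
      (∀ x ∈ es, x ∈ CfsgLib.J4DCE.Top.chains) → e ∈ es → (orbUnion es).ncard < sizeSum es := by
    intro es
    induction es with
    | nil => intro _ h; simp at h
    | cons x es ih =>
      intro h hmem
      have hsum : sizeSum (x :: es) = x.2.2.2 + sizeSum es := by
        rw [sizeSum, sizeSum, List.map_cons, List.sum_cons]
      have h1 := orbM_card_le (h x List.mem_cons_self)
      have h2 := CfsgLib.J4DCE.J.orbUnion_ncard_le es fun y hy => h y (List.mem_cons_of_mem _ hy)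
      have h3 : (orbUnion (x :: es)).ncard ≤ (orbM x.1).ncard + (orbUnion es).ncard := Set.ncard_union_le _ _
      rcases List.mem_cons.1 hmem with rfl | hm
      · omega
      · have h4 := ih (fun y hy => h y (List.mem_cons_of_mem _ hy)) hm
        omega
  have h := key _ (fun _ hx => hx) he
  rw [CfsgLib.J4DCE.J.orbUnion_all, Set.ncard_univ, hidx, CfsgLib.J4DCE.J.sizeSum_all] at h
  exact lt_irrefl _ h

/-- the stabiliser in the permutation group of the vector of a named point -/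
noncomputable def stabP (l : ℕ) : Subgroup M24 := (MulAction.stabilizer (Equiv.Perm Vec112) (vecP l)).comap
  (rep.comp jemb)

theorem mem_stabP {l : ℕ} {σ : M24} : σ ∈ stabP l ↔ rep (jemb σ) (vecP l) = vecP l := Iff.rfl

theorem card_stabP (hidx : Nat.card Cosets = 173067389) {l n : ℕ} (hl : l ≤ 21)
    (he : (l, n) ∈ CfsgLib.J4DCE.Top.chains.map fun e => (e.1, e.2.2.2)) :
    n * Nat.card (stabP l) = 244823040 := by
  obtain ⟨e, he', hee⟩ := List.mem_map.1 he
  obtain ⟨rfl, rfl⟩ := Prod.mk.inj hee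
  obtain ⟨gl, hgl, hglv⟩ := exists_rep_point e.1 hl
  have hiff : ∀ σ τ : M24, jemb σ • cpt e.1 = jemb τ • cpt e.1 ↔ τ⁻¹ * σ ∈ stabP e.1 := by
    intro σ τ
    rw [mem_stabP, ← hgl, smul_smul, smul_smul, map_mul, map_inv, ← hglv, ← Equiv.Perm.mul_apply,
      ← map_mul]
    constructor
    · intro h
      have h2 := rep_eq_of_coset h
      rw [mul_assoc, map_mul, Equiv.Perm.mul_apply, h2, ← Equiv.Perm.mul_apply, ← map_mul,
        inv_mul_cancel_left]
    · intro h
      refine coset_eq_of_rep ?_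
      rw [mul_assoc, map_mul, Equiv.Perm.mul_apply, map_inv, Equiv.Perm.inv_eq_iff_eq] at h
      rw [h]
      conv_rhs => rw [map_mul, Equiv.Perm.mul_apply]
  have hb : Nat.card (M24 ⧸ stabP e.1) = (orbM e.1).ncard := by
    rw [← Nat.card_coe_set_eq]
    refine Nat.card_eq_of_bijective
      (fun q => (⟨jemb q.out • cpt e.1, q.out, rfl⟩ : orbM e.1)) ⟨fun q q' h => ?_, fun x => ?_⟩
    · have h' := (hiff _ _).1 (congrArg Subtype.val h)
      rw [← Quotient.out_eq q, ← Quotient.out_eq q']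
      exact (QuotientGroup.eq.2 (by
        have := (stabP e.1).inv_mem h'
        rwa [mul_inv_rev, inv_inv] at this))
    · obtain ⟨σ, hσ⟩ := x.2
      refine ⟨(σ : M24 ⧸ stabP e.1), Subtype.ext ?_⟩
      show jemb (σ : M24 ⧸ stabP e.1).out • cpt e.1 = x.1
      rw [← hσ]
      refine (hiff _ _).2 ?_
      have := QuotientGroup.eq.1 (Quotient.out_eq (σ : M24 ⧸ stabP e.1)).symm
      exact this
  rw [← orbM_ncard_eq hidx he', ← hb, ← Subgroup.card_eq_card_quotient_mul_card_subgroup,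
    CfsgLib.Golay.natCard_M24]

theorem orbit_vecs_spec :
    actM 4 v1 = v1 ∧ actM 5 v1 = v1 ∧ v1 ∈ fixB ∧ v0 ∈ fixB ∧
      (∀ v ∈ fixB, actM 5 v = v ∧ runM wordNu.reverse v ∈ fixB) ∧ ∀ a ∈ wordNu, a < 3 := by
  have h := orbit_vecs_ok
  simp only [Bool.and_eq_true, List.all_eq_true, Nat.blt_eq, List.contains_iff_mem] at h
  obtain ⟨⟨⟨⟨⟨h1, h2⟩, h3⟩, h4⟩, h5⟩, h6⟩ := h
  exact ⟨Nat.eq_of_beq_eq_true h1, Nat.eq_of_beq_eq_true h2, h3, h4,
    fun v hv => ⟨Nat.eq_of_beq_eq_true (h5 v hv).1, (h5 v hv).2⟩, h6⟩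

theorem vecP21 : rep (emb ⟨evW (ev2 ptX ptY) word21, evW2_mem word21⟩) (vecP 21) = vec1 := by
  have hw : ∀ a ∈ word21, a < 3 := by decide +kernel
  refine Subtype.ext ?_
  rw [rep_emb_word hw]
  have h := last_ok
  simp only [Bool.and_eq_true] at h
  exact Nat.eq_of_beq_eq_true h.2

/-- the stabiliser of the second special vector -/
noncomputable def stabV1 : Subgroup M24 :=
  (MulAction.stabilizer (Equiv.Perm Vec112) vec1).comap (rep.comp emb)

theorem mem_stabV1 {σ : M24} : σ ∈ stabV1 ↔ rep (emb σ) vec1 = vec1 := Iff.rfl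

theorem stabV1_eq (hidx : Nat.card Cosets = 173067389) {σ : M24} (h : σ ∈ stabV1) :
    ∃ k < 23, ∃ l < 11, σ.1 = pA ^ k * pB ^ l := by
  have h21 := card_stabP hidx (l := 21) (n := 967680) le_rfl (by decide +kernel)
  set ρ : M24 := ⟨evW (ev2 ptX ptY) word21, evW2_mem word21⟩ with hρ
  have hconj : ∀ τ : M24, τ ∈ stabV1 → ρ⁻¹ * τ * ρ ∈ stabP 21 := by
    intro τ hτ
    rw [mem_stabP, jemb_eq_emb, map_mul, map_mul, map_mul, map_mul, Equiv.Perm.mul_apply,
      Equiv.Perm.mul_apply, vecP21, mem_stabV1.1 hτ, map_inv, map_inv, Equiv.Perm.inv_eq_iff_eq, vecP21]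
  have hA : (⟨pA, pA_mem⟩ : M24) ∈ stabV1 := by
    rw [mem_stabV1, ← el_four]
    exact Subtype.ext ((hasMat_el (by norm_num) vec1).trans orbit_vecs_spec.1)
  have hB : (⟨pB, pB_mem⟩ : M24) ∈ stabV1 := by
    rw [mem_stabV1, ← el_five]
    exact Subtype.ext ((hasMat_el (by norm_num) vec1).trans orbit_vecs_spec.2.1)
  let f : Fin 23 × Fin 11 → stabP 21 := fun p =>
    ⟨ρ⁻¹ * ((⟨pA, pA_mem⟩ : M24) ^ p.1.val * (⟨pB, pB_mem⟩ : M24) ^ p.2.val) * ρ,
      hconj _ (mul_mem (pow_mem hA _) (pow_mem hB _))⟩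
  have hf : Function.Injective f := fun p q hpq => by
    have h1 := congrArg Subtype.val (mul_left_cancel (mul_right_cancel (congrArg Subtype.val hpq)))
    simp only [Subgroup.coe_mul, SubmonoidClass.coe_pow] at h1
    obtain ⟨h2, h3⟩ := frob_injective p.1.2 p.2.2 q.1.2 q.2.2 h1
    exact Prod.ext (Fin.ext h2) (Fin.ext h3)
  have hbij : Function.Bijective f := hf.bijective_of_nat_card_le (by
    have : Nat.card (stabP 21) = 253 := by omega
    rw [this, Nat.card_prod, Nat.card_fin, Nat.card_fin])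
  obtain ⟨p, hp⟩ := hbij.2 ⟨_, hconj σ h⟩
  have h1 := congrArg Subtype.val (mul_left_cancel (mul_right_cancel (congrArg Subtype.val hp)))
  simp only [Subgroup.coe_mul, SubmonoidClass.coe_pow] at h1
  exact ⟨p.1.val, p.1.2, p.2.val, p.2.2, h1.symm⟩

/-- An element of prime order 11 or 23 fixes only the first point and points of the last orbit. -/
theorem fixed_point_cases (hidx : Nat.card Cosets = 173067389) {π : M24} {p : ℕ} (hp : p = 11 ∨ p = 23)
    (hord : orderOf π = p) {g : J4} (hg : rep (emb π) (rep g vec0) = rep g vec0) :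
    rep g vec0 = vec0 ∨ ∃ τ : M24, rep g vec0 = rep (emb τ) vec1 ∧ τ⁻¹ * π * τ ∈ stabV1 := by
  obtain ⟨σ, l, hl, -, hv⟩ := exists_point g
  rw [jemb_eq_emb] at hv
  have hcases : ∀ l ∈ CfsgLib.J4DCE.Top.live, l = 0 ∨ l = 21 ∨
      ∃ e ∈ CfsgLib.J4DCE.Top.chains.map (fun e => (e.1, e.2.2.2)), e.1 = l ∧
        e.2 % 11 = 0 ∧ e.2 % 23 = 0 := by decide +kernel
  rcases hcases l hl with rfl | rfl | ⟨e, he, rfl, h11, h23⟩
  · left
    rw [hv]
    obtain ⟨g0, hg0, hg0v⟩ := exists_rep_point 0 (by norm_num)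
    have h0 : vecP 0 = vec0 := by
      have h := last_ok
      simp only [Bool.and_eq_true] at h
      exact Subtype.ext (Nat.eq_of_beq_eq_true h.1)
    rw [h0, rep_Mgrp_vec0 (emb_range ▸ ⟨σ, rfl⟩)]
  · right
    set ρ : M24 := ⟨evW (ev2 ptX ptY) word21, evW2_mem word21⟩ with hρ
    have hτ : rep g vec0 = rep (emb (σ * ρ⁻¹)) vec1 := by
      rw [hv, map_mul, map_inv, map_mul, map_inv, Equiv.Perm.mul_apply, ← vecP21, ← hρ, Equiv.Perm.inv_def,
        Equiv.symm_apply_apply]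
    refine ⟨σ * ρ⁻¹, hτ, ?_⟩
    rw [mem_stabV1, map_mul, map_mul, map_mul, map_mul, Equiv.Perm.mul_apply, Equiv.Perm.mul_apply, ← hτ, hg,
      map_inv, map_inv, Equiv.Perm.inv_eq_iff_eq, hτ]
  · exfalso
    have hmem : σ⁻¹ * π * σ ∈ stabP e.1 := by
      rw [mem_stabP, jemb_eq_emb, map_mul, map_mul, map_mul, map_mul, Equiv.Perm.mul_apply,
        Equiv.Perm.mul_apply, ← hv, hg, map_inv, map_inv, Equiv.Perm.inv_eq_iff_eq, hv]
    have hd : p ∣ Nat.card (stabP e.1) := by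
      have h := orderOf_dvd_natCard (⟨_, hmem⟩ : stabP e.1)
      rwa [Subgroup.orderOf_mk, show σ⁻¹ * π * σ = σ⁻¹ * π * (σ⁻¹)⁻¹ by rw [inv_inv],
        show σ⁻¹ * π * (σ⁻¹)⁻¹ = MulAut.conj σ⁻¹ π from rfl, MulEquiv.orderOf_eq, hord] at h
    have hc := card_stabP hidx (live_le e.1 hl) he
    rcases hp with rfl | rfl
    · have h2 : 11 * 11 ∣ 244823040 := hc ▸ Nat.mul_dvd_mul (Nat.dvd_of_mod_eq_zero h11) hd
      norm_num at h2
    · have h2 : 23 * 23 ∣ 244823040 := hc ▸ Nat.mul_dvd_mul (Nat.dvd_of_mod_eq_zero h23) hd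
      norm_num at h2

theorem orderOf_pA : orderOf (⟨pA, pA_mem⟩ : M24) = 23 := by
  have := Fact.mk (show Nat.Prime 23 by norm_num)
  exact orderOf_eq_prime (Subtype.ext pA_pow_twentythree) fun h => pA_ne_one (congrArg Subtype.val h)

theorem orderOf_pB : orderOf (⟨pB, pB_mem⟩ : M24) = 11 := by
  have := Fact.mk (show Nat.Prime 11 by norm_num)
  exact orderOf_eq_prime (Subtype.ext pB_pow_eleven) fun h => pB_ne_one (congrArg Subtype.val h)

theorem fixB_mem_pow (q r : ℕ) {v : Vec112} (hv : v.1 ∈ fixB) :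
    (rep (emb ((⟨pNu, pNu_mem⟩ : M24) ^ r * (⟨pB, pB_mem⟩ : M24) ^ q)) v).1 ∈ fixB := by
  obtain ⟨-, -, -, -, h5, hw⟩ := orbit_vecs_spec
  have hnu : ∀ v : Vec112, v.1 ∈ fixB → (rep (emb ⟨pNu, pNu_mem⟩) v).1 ∈ fixB := fun v hv => by
    have : (⟨pNu, pNu_mem⟩ : M24) = ⟨evW (ev2 ptX ptY) wordNu, evW2_mem wordNu⟩ :=
      Subtype.ext (by unfold pNu; rfl)
    rw [this, rep_emb_word hw]
    exact (h5 _ hv).2
  have hb : ∀ v : Vec112, v.1 ∈ fixB → (rep (emb ⟨pB, pB_mem⟩) v).1 ∈ fixB := fun v hv => by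
    rw [← el_five, hasMat_el (by norm_num) v, (h5 _ hv).1]
    exact hv
  have hq : (rep (emb ((⟨pB, pB_mem⟩ : M24) ^ q)) v).1 ∈ fixB := by
    induction q with
    | zero => simpa using hv
    | succ q ih => rw [pow_succ' (⟨pB, pB_mem⟩ : M24), map_mul, map_mul, Equiv.Perm.mul_apply]; exact hb _ ih
  induction r with
  | zero => simpa using hq
  | succ r ih => rw [pow_succ' (⟨pNu, pNu_mem⟩ : M24), mul_assoc, map_mul, map_mul, Equiv.Perm.mul_apply]; exact hnu _ ih

/-- The three facts about the action on the cosets. -/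
theorem orbitFacts (hidx : Nat.card Cosets = 173067389) : OrbitFacts where
  stab g hg := subH_le_Hgrp (mem_subH_of_fix hg)
  fixA g hg := by
    rw [el_four] at hg
    rcases fixed_point_cases hidx (Or.inr rfl) orderOf_pA hg with h | ⟨τ, hτ, hmem⟩
    · exact Or.inl h
    · right
      obtain ⟨k, hk, l, hl, hkl⟩ := stabV1_eq hidx hmem
      simp only [Subgroup.coe_mul, InvMemClass.coe_inv] at hkl
      have h23 : (pA ^ k * pB ^ l) ^ 23 = 1 := by
        rw [← hkl]
        calc (τ.1⁻¹ * pA * τ.1) ^ 23 = τ.1⁻¹ * pA ^ 23 * τ.1 := by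
              rw [show τ.1⁻¹ * pA * τ.1 = τ.1⁻¹ * pA * (τ.1⁻¹)⁻¹ by rw [inv_inv], conj_pow, inv_inv]
          _ = 1 := by rw [pA_pow_twentythree, mul_one, inv_mul_cancel]
      obtain rfl := frob_order23 hk hl h23
      rw [pow_zero, mul_one] at hkl
      have hk0 : k ≠ 0 := fun h0 => by
        subst h0
        rw [pow_zero] at hkl
        refine pA_ne_one ?_
        calc pA = τ.1 * (τ.1⁻¹ * pA * τ.1) * τ.1⁻¹ := by group
          _ = 1 := by rw [hkl]; group
      obtain ⟨k', l', hn⟩ := normalizer_pA (M24.inv_mem τ.2) (i := k) (by omega) hk (by rw [inv_inv]; exact hkl)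
      have hτmem : τ ∈ stabV1 := by
        refine (Subgroup.inv_mem_iff stabV1).1 ?_
        have : τ⁻¹ = (⟨pB, pB_mem⟩ : M24) ^ l' * (⟨pA, pA_mem⟩ : M24) ^ k' := Subtype.ext hn
        rw [this]
        refine mul_mem (pow_mem ?_ _) (pow_mem ?_ _)
        · rw [mem_stabV1, ← el_five]
          exact Subtype.ext ((hasMat_el (by norm_num) vec1).trans orbit_vecs_spec.2.1)
        · rw [mem_stabV1, ← el_four]
          exact Subtype.ext ((hasMat_el (by norm_num) vec1).trans orbit_vecs_spec.1)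
      rw [hτ]; exact hτmem
  fixB g hg := by
    have hfin : (rep g vec0).1 ∈ fixB := by
      rw [el_five] at hg
      rcases fixed_point_cases hidx (Or.inl rfl) orderOf_pB hg with h | ⟨τ, hτ, hmem⟩
      · rw [h]; exact orbit_vecs_spec.2.2.2.1
      · obtain ⟨k, hk, l, hl, hkl⟩ := stabV1_eq hidx hmem
        simp only [Subgroup.coe_mul, InvMemClass.coe_inv] at hkl
        have hne : pA ^ k * pB ^ l ≠ 1 := fun h1 => by
          rw [h1] at hkl
          refine pB_ne_one ?_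
          calc pB = τ.1 * (τ.1⁻¹ * pB * τ.1) * τ.1⁻¹ := by group
            _ = 1 := by rw [hkl]; group
        have h11 : (pA ^ k * pB ^ l) ^ 11 = 1 := by
          rw [← hkl, show τ.1⁻¹ * pB * τ.1 = τ.1⁻¹ * pB * (τ.1⁻¹)⁻¹ by rw [inv_inv], conj_pow,
            pB_pow_eleven, mul_one, inv_inv, inv_mul_cancel]
        obtain ⟨hl0, m, hm⟩ := frob_order11 hk hl h11 hne
        set A : M24 := ⟨pA, pA_mem⟩ with hA
        have hmemA : A ^ m ∈ stabV1 := pow_mem (by
          rw [mem_stabV1, ← el_four]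
          exact Subtype.ext ((hasMat_el (by norm_num) vec1).trans orbit_vecs_spec.1)) _
        set μ : M24 := A ^ m * τ⁻¹ with hμ
        have hμc : μ.1 * pB * μ.1⁻¹ = pB ^ l := by
          simp only [hμ, hA, Subgroup.coe_mul, SubmonoidClass.coe_pow, InvMemClass.coe_inv, mul_inv_rev,
            inv_inv]
          calc pA ^ m * τ.1⁻¹ * pB * (τ.1 * (pA ^ m)⁻¹)
              = pA ^ m * (τ.1⁻¹ * pB * τ.1) * (pA ^ m)⁻¹ := by group
            _ = pB ^ l := by rw [hkl, hm, mul_inv_cancel_right]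
        -- invert the exponent
        obtain ⟨l', hl'0, hl'1, hl'⟩ : ∃ l', 1 ≤ l' ∧ l' < 11 ∧ l * l' % 11 = 1 := by
          have hd : ∀ l < 11, l ≠ 0 → ∃ l' < 11, 1 ≤ l' ∧ l * l' % 11 = 1 := by decide
          obtain ⟨l', h1, h2, h3⟩ := hd l hl hl0
          exact ⟨l', h2, h1, h3⟩
        have hμi : μ⁻¹.1 * pB * μ⁻¹.1⁻¹ = pB ^ l' := by
          have h1 : μ.1 * pB ^ l' * μ.1⁻¹ = pB := by
            rw [← conj_pow, hμc, ← pow_mul, pow_eq_pow_mod _ pB_pow_eleven, hl', pow_one]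
          rw [InvMemClass.coe_inv, inv_inv]
          calc μ.1⁻¹ * pB * μ.1 = μ.1⁻¹ * (μ.1 * pB ^ l' * μ.1⁻¹) * μ.1 := by rw [h1]
            _ = pB ^ l' := by group
        obtain ⟨q, r, hqr⟩ := normalizer_pB μ⁻¹.2 hl'0 hl'1 hμi
        have hμeq : μ⁻¹ = (⟨pNu, pNu_mem⟩ : M24) ^ r * (⟨pB, pB_mem⟩ : M24) ^ q := Subtype.ext hqr
        have hτμ : τ = μ⁻¹ * A ^ m := by rw [hμ]; group
        rw [hτ, hτμ, map_mul, map_mul, Equiv.Perm.mul_apply, mem_stabV1.1 hmemA, hμeq]
        exact fixB_mem_pow q r orbit_vecs_spec.2.2.1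
    obtain ⟨i, hi, hiv⟩ := List.getElem_of_mem hfin
    have hlen : fixB.length = 11 := by decide
    exact ⟨i, hlen ▸ hi, by rw [List.getD_eq_getElem _ _ hi]; exact hiv.symm⟩

end CfsgLib.J4Out
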