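import Cfsg.Agent.Lib.Presented.J4Out.Main
import Cfsg.Agent.Lib.Presented.J4Out.Orbits

/-!
The outer automorphism group of the presented fourth Janko group is trivial, given its simplicity and the
index of `2¹¹:M₂₄`.
-/
set_option autoImplicit false

namespace CfsgLib.J4Out

open CfsgLib.Presented CfsgLib.J4Rep CfsgLib.J4Mult Cfsg Cfsg.Spor

theorem card_not_dvd_of_centralizer {G : Type*} [Group G] [Finite G] {a : G} {p : ℕ} [hp : Fact p.Prime]
    (ha : orderOf a = p) (hC : ∀ x : G, x * a * x⁻¹ = a → ∃ i : ℕ, x = a ^ i) :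
    ¬ p * p ∣ Nat.card G := by
  intro hd
  obtain ⟨P, hP⟩ := IsPGroup.exists_le_sylow (G := G)
    (IsPGroup.of_card (n := 1) (by rw [Nat.card_zpowers, ha, pow_one]) : IsPGroup p (Subgroup.zpowers a))
  have : Nontrivial P := by
    refine ⟨⟨⟨a, hP (Subgroup.mem_zpowers a)⟩, 1, fun h => hp.out.ne_one ?_⟩⟩
    rw [← ha, show a = 1 from congrArg Subtype.val h, orderOf_one]
  have : Nontrivial (Subgroup.center P) := P.isPGroup'.center_nontrivial
  obtain ⟨⟨z, hz⟩, hz1⟩ := exists_ne (1 : Subgroup.center P)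
  have hz1' : z.1 ≠ 1 := fun h => hz1 (Subtype.ext (Subtype.ext h))
  have hzc : ∀ y ∈ P, z.1 * y = y * z.1 := fun y hy => by
    have := congrArg Subtype.val (Subgroup.mem_center_iff.1 hz ⟨y, hy⟩)
    exact this.symm
  obtain ⟨i, hi⟩ := hC z.1 (by rw [hzc a (hP (Subgroup.mem_zpowers a)), mul_inv_cancel_right])
  have hi' : Nat.Coprime i (orderOf a) := by
    rw [ha]
    refine (hp.out.coprime_iff_not_dvd.2 fun hdi => hz1' ?_).symm
    obtain ⟨t, rfl⟩ := hdi
    rw [hi, pow_mul, ← ha, pow_orderOf_eq_one, one_pow]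
  obtain ⟨l, hl⟩ := exists_pow_eq_self_of_coprime hi'
  have hle : (P : Subgroup G) ≤ Subgroup.zpowers a := by
    intro y hy
    have hc : Commute y a := by
      rw [← hl, ← hi]
      exact (Commute.pow_right (show Commute y z.1 from (hzc y hy).symm) l)
    obtain ⟨k, rfl⟩ := hC y (by rw [hc.eq, mul_inv_cancel_right])
    exact Subgroup.npow_mem_zpowers a k
  have h2 : p ^ 2 ∣ Nat.card P := by
    rw [P.card_eq_multiplicity]
    exact pow_dvd_pow p ((hp.out.pow_dvd_iff_le_factorization Nat.card_pos.ne').1 (by rwa [pow_two]))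
  have h3 : p ^ 2 ∣ p := by
    refine h2.trans ?_
    have := Subgroup.card_dvd_of_le hle
    rwa [Nat.card_zpowers, ha] at this
  have := Nat.le_of_dvd hp.out.pos h3
  nlinarith [hp.out.two_le]

/-- Every automorphism is inner. -/
theorem card_out_J4 (hidx : Nat.card CfsgLib.J4DCE.J.Cosets = 173067389) (hs : IsSimpleGroup J4) :
    Nat.card (Cfsg.Out J4) = 1 := by
  have := CfsgLib.J4DCE.J.J4_finite
  have := Fact.mk (show Nat.Prime 23 by norm_num)
  exact card_out_eq_one hs (card_not_dvd_of_centralizer (orderOf_a hs)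
    (fun x hx => centralizer_a hs (orbitFacts hidx) hx)) (orbitFacts hidx)

end CfsgLib.J4Out
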