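import Cfsg.Agent.Lib.Presented.J4Out.Centralizers
import Cfsg.Agent.Lib.Schur.OutRigidTwist

/-!
Every automorphism of the presented fourth Janko group is inner, given the action on the cosets of
`2¹¹:M₂₄`.
-/
set_option autoImplicit false
set_option maxRecDepth 20000

namespace CfsgLib.J4Out

open CfsgLib.Presented CfsgLib.J4Rep CfsgLib.J4Mult CfsgLib.Presented.J4M24 Cfsg Cfsg.Spor

attribute [local irreducible] el emb pA pB

theorem evW_el_mem {w : List ℕ} {K : Subgroup J4} (h : ∀ a ∈ w, el a ∈ K) : evW el w ∈ K := by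
  induction w with
  | nil => exact one_mem _
  | cons a w ih =>
    rw [evW_cons]
    exact mul_mem (h a List.mem_cons_self) (ih fun b hb => h b (List.mem_cons_of_mem _ hb))

theorem closure_eq_top (hs : IsSimpleGroup J4) :
    Subgroup.closure ({el 4, el 5, el 17} : Set J4) = ⊤ := by
  set K := Subgroup.closure ({el 4, el 5, el 17} : Set J4) with hK
  have h4 : el 4 ∈ K := Subgroup.subset_closure (by simp)
  have h5 : el 5 ∈ K := Subgroup.subset_closure (by simp)
  have h17 : el 17 ∈ K := Subgroup.subset_closure (by simp)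
  have hinv : ∀ p ∈ [(4, 19), (5, 20), (17, 21)], ([p.1, p.2], []) ∈ eqs := by decide +kernel
  have h19 : el 19 ∈ K := by
    have := el_eq hs (hinv (4, 19) (by simp))
    simp only [evW_cons, evW_nil, mul_one] at this
    rw [← inv_eq_of_mul_eq_one_right this]
    exact K.inv_mem h4
  have h20 : el 20 ∈ K := by
    have := el_eq hs (hinv (5, 20) (by simp))
    simp only [evW_cons, evW_nil, mul_one] at this
    rw [← inv_eq_of_mul_eq_one_right this]
    exact K.inv_mem h5
  have h21 : el 21 ∈ K := by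
    have := el_eq hs (hinv (17, 21) (by simp))
    simp only [evW_cons, evW_nil, mul_one] at this
    rw [← inv_eq_of_mul_eq_one_right this]
    exact K.inv_mem h17
  have hbase : ∀ a ∈ [4, 5, 17, 19, 20, 21], el a ∈ K := by
    intro a ha
    simp only [List.mem_cons, List.not_mem_nil, or_false] at ha
    rcases ha with rfl | rfl | rfl | rfl | rfl | rfl <;> assumption
  have haux : ∀ n ∈ List.range' 19 11, el (n + 4) ∈ K := by
    have hw : ∀ n ∈ List.range' 19 11, ∀ a ∈ prog.getD n [], a ∈ [4, 5, 17, 19, 20, 21] := by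
      decide +kernel
    intro n hn
    have hn' : n < 30 := by
      obtain ⟨i, hi, rfl⟩ := List.mem_range'.1 hn
      omega
    rw [el_node hn']
    exact evW_el_mem fun a ha => hbase a (hw n hn a ha)
  have hgen : ∀ g ∈ [0, 1, 3], el g ∈ K := by
    have hw : ∀ g ∈ [0, 1, 3], ∃ p ∈ eqs, p.2 = [g] ∧
        ∀ a ∈ p.1, a ∈ [4, 5, 17, 19, 20, 21] ∨ (23 ≤ a ∧ a < 34) := by decide +kernel
    intro g hg
    obtain ⟨p, hp, h2, hlet⟩ := hw g hg
    have := el_eq hs hp
    rw [h2] at this
    simp only [evW_cons, evW_nil, mul_one] at this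
    rw [← this]
    refine evW_el_mem fun a ha => ?_
    rcases hlet a ha with h | ⟨h1, h2⟩
    · exact hbase a h
    · obtain ⟨n, rfl⟩ : ∃ n, a = n + 4 := ⟨a - 4, by omega⟩
      exact haux n (List.mem_range'.2 ⟨n - 19, by omega, by omega⟩)
  rw [eq_top_iff]
  refine le_of_eq_of_le (PresentedGroup.closure_range_of _).symm ?_
  rw [Subgroup.closure_le]
  rintro _ ⟨i, rfl⟩
  cases i
  · have := hgen 0 (by simp); rwa [el_zero] at this
  · have := hgen 1 (by simp); rwa [el_one] at this
  · have h3 : el 3 = PresentedGroup.mk _ Cfsg.Spor.J4.t := by unfold el; rfl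
    have := hgen 3 (by simp); rwa [h3] at this

theorem orderOf_a (hs : IsSimpleGroup J4) : orderOf (el 4) = 23 := by
  have := Fact.mk (show Nat.Prime 23 by norm_num)
  refine orderOf_eq_prime (eval_eqs hs).2.1 fun h => ?_
  rw [el_four, ← map_one emb] at h
  have h' := congrArg (fun σ : M24 => CfsgLib.Golay.toList σ.1) (emb_injective h)
  simp only [toList_pA, OneMemClass.coe_one, CfsgLib.Golay.toList_one] at h'
  revert h'
  decide +kernel

theorem evalThree_eq (u v w : J4) (g : ℕ → J4) (hg : g 0 = u ∧ g 1 = v ∧ g 2 = w) :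
    ∀ r : List ℕ, (∀ i ∈ r, i < 3) → CfsgLib.Schur.evalThree u v w r = evW g r
  | [], _ => rfl
  | i :: r, h => by
    rw [CfsgLib.Schur.evalThree, evW_cons,
      evalThree_eq u v w g hg r fun j hj => h j (List.mem_cons_of_mem _ hj)]
    congr 1
    have := h i List.mem_cons_self
    obtain rfl | rfl | rfl : i = 0 ∨ i = 1 ∨ i = 2 := by omega
    · exact hg.1.symm
    · exact hg.2.1.symm
    · exact hg.2.2.symm

theorem evW_relWord (x : List ℕ) (r : List ℕ × ℕ) (h : ∀ i ∈ r.1, i < 3) :
    evW el (relWord x r) = CfsgLib.Schur.evalThree (el 4) (el 5) (evW el x) r.1 ^ r.2 := by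
  rw [evalThree_eq _ _ _ (fun m => evW el ([[4], [5], x].getD m [])) ⟨by simp, by simp, by simp⟩ r.1 h]
  have h1 : evW el ((r.1.map fun m => [[4], [5], x].getD m []).flatten) =
      evW (fun m => evW el ([[4], [5], x].getD m [])) r.1 := by
    induction r.1 with
    | nil => rfl
    | cons i w ih => rw [List.map_cons, List.flatten_cons, evW_append, ih, evW_cons]
  rw [← h1, relWord]
  induction r.2 with
  | zero => rw [List.replicate_zero, List.flatten_nil, evW_nil, pow_zero]
  | succ n ih => rw [List.replicate_succ, List.flatten_cons, evW_append, ih, pow_succ']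

/-- Every automorphism is inner, given the action on the cosets of `2¹¹:M₂₄`. -/
theorem card_out_eq_one [Finite J4] (hs : IsSimpleGroup J4)
    (hdvd : ¬ 23 * 23 ∣ Nat.card J4) (hO : OrbitFacts) :
    Nat.card (Cfsg.Out J4) = 1 := by
  classical
  have := Fact.mk (show Nat.Prime 23 by norm_num)
  obtain ⟨-, h23, -, -, hcb, -, hn, hba⟩ := eval_eqs hs
  refine CfsgLib.Schur.card_out_eq_one ?_
  have h := CfsgLib.Schur.card_out_le_twist (el 4) (el 5) (el 17) 23 16 1 (orderOf_a hs)
    hdvd (fun x hx => centralizer_a hs hO hx) (mul_inv_eq_iff_eq_mul.2 hba)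
    (by norm_num) [1] ?reps (by rw [pow_one, hcb, mul_inv_cancel_right])
    ((List.range 242).map fun q => evW el (cWord (q / 22) (q % 22 / 2) (q % 2))) ?lc
    (closure_eq_top hs) relR ?rels [(1, el 17)] ?surv
  · simpa using h
  case reps =>
    intro j hj hj0
    have hb : ∀ i : ℕ, el 5 ^ i * el 4 * (el 5 ^ i)⁻¹ = el 4 ^ (16 ^ i) := by
      intro i
      induction i with
      | zero => simp
      | succ i ih =>
        calc el 5 ^ (i + 1) * el 4 * (el 5 ^ (i + 1))⁻¹
            = el 5 * (el 5 ^ i * el 4 * (el 5 ^ i)⁻¹) * (el 5)⁻¹ := by rw [pow_succ']; group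
          _ = (el 5 * el 4 * (el 5)⁻¹) ^ (16 ^ i) := by rw [ih, conj_pow]
          _ = el 4 ^ (16 ^ (i + 1)) := by rw [mul_inv_eq_iff_eq_mul.2 hba, ← pow_mul, pow_succ']
    have hdec : ∀ j < 23, j ≠ 0 → ∃ i < 11, j * 16 ^ i % 23 = 1 ∨ j * (22 * 16 ^ i) % 23 = 1 := by
      decide +kernel
    obtain ⟨i, -, hi | hi⟩ := hdec j hj hj0
    · exact ⟨el 5 ^ i, 16 ^ i, hb i, by simp [hi]⟩
    · refine ⟨el 5 ^ i * el 22, 22 * 16 ^ i, ?_, by simp [hi]⟩
      calc el 5 ^ i * el 22 * el 4 * (el 5 ^ i * el 22)⁻¹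
          = el 5 ^ i * (el 22 * el 4 * (el 22)⁻¹) * (el 5 ^ i)⁻¹ := by group
        _ = (el 5 ^ i * el 4 * (el 5 ^ i)⁻¹) ^ 22 := by
          rw [mul_inv_eq_iff_eq_mul.2 hn, conj_pow]
        _ = el 4 ^ (22 * 16 ^ i) := by rw [hb, ← pow_mul, mul_comm]
  case lc =>
    intro x hx
    obtain ⟨i, hi, j, hj, k, hk, rfl⟩ := centralizer_b hs hO (by rwa [pow_one] at hx)
    refine List.mem_map.2 ⟨22 * i + 2 * j + k, List.mem_range.2 (by omega), ?_⟩
    rw [show (22 * i + 2 * j + k) / 22 = i by omega, show (22 * i + 2 * j + k) % 22 / 2 = j by omega,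
      show (22 * i + 2 * j + k) % 2 = k by omega]
  case rels =>
    have hk : ∀ r ∈ relR, (relWord [17] r, []) ∈ eqs ∧ ∀ i ∈ r.1, i < 3 := by decide +kernel
    intro r hr
    have := el_eq hs (hk r hr).1
    rw [evW_relWord _ _ (hk r hr).2, evW_nil] at this
    simpa [evW] using this
  case surv =>
    intro j hj x hx hrel
    simp only [List.mem_singleton] at hj
    subst hj
    rw [pow_one] at hrel
    obtain ⟨q, hq, rfl⟩ := List.mem_map.1 hx
    by_cases hq22 : q = 22
    · subst hq22
      refine List.mem_singleton.2 (Prod.ext rfl ?_)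
      show evW el (cWord (22 / 22) (22 % 22 / 2) (22 % 2)) = el 17
      simp [cWord, evW]
    · exfalso
      have hk := List.all_eq_true.1 kill_ok q hq
      simp only [killOK, Bool.or_eq_true, Nat.beq_eq, hq22, false_or, List.any_eq_true,
        Bool.not_eq_true'] at hk
      obtain ⟨r, hr, hne⟩ := hk
      have hwf : ∀ r ∈ relR, ∀ i ∈ r.1, i < 3 := by decide +kernel
      have hwl : ∀ q ∈ List.range 242, ∀ r ∈ relR,
          ∀ a ∈ relWord (cWord (q / 22) (q % 22 / 2) (q % 2)) r, a < 34 := by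
        intro q _ r _ a ha
        simp only [relWord, List.mem_flatten, List.mem_replicate] at ha
        obtain ⟨l, ⟨-, rfl⟩, ha⟩ := ha
        simp only [List.mem_flatten, List.mem_map] at ha
        obtain ⟨l, ⟨m, -, rfl⟩, ha⟩ := ha
        rcases m with _ | _ | _ | m
        · simp at ha; omega
        · simp at ha; omega
        · simp [cWord] at ha
          omega
        · simp at ha
      have h1 := hrel r hr
      rw [← evW_relWord _ _ (hwf r hr)] at h1
      have h2 := rep_evW_el (hwl q hq r hr) ⟨1, by norm_num⟩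
      rw [h1, map_one] at h2
      have : runM (relWord (cWord (q / 22) (q % 22 / 2) (q % 2)) r).reverse 1 = 1 := h2.symm
      rw [this, Nat.beq_refl] at hne
      exact Bool.noConfusion hne

end CfsgLib.J4Out
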