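import Cfsg.Agent.Lib.Presented.J4Out.Defs
import Cfsg.Agent.Lib.Presented.J4Out.PointsData
import Cfsg.Agent.Lib.J4DCE.TopData
import Cfsg.Agent.Lib.J4M24.Perms

/-! Kernel checks of the vectors of the named points. -/
set_option autoImplicit false
set_option maxRecDepth 20000
set_option Elab.async false

namespace CfsgLib.J4Out

open CfsgLib.Presented CfsgLib.Presented.J4M24

/-- one step on the paths to the named points -/
noncomputable def stepOK (n : ℕ) : Bool :=
  (ptStep.getD n (0, 0, [], 0)).2.2.1.all (fun a => Nat.blt a 3) &&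
    Nat.blt (ptStep.getD n (0, 0, [], 0)).1 (n + 1) &&
    Nat.beq (CfsgLib.J4DCE.Top.cert.facts.get (CfsgLib.J4DCE.Top.cert.par.get 13 (n + 1))).i
      (ptStep.getD n (0, 0, [], 0)).1 &&
    Nat.beq (CfsgLib.J4DCE.Top.cert.facts.get (CfsgLib.J4DCE.Top.cert.par.get 13 (n + 1))).r
      (ptStep.getD n (0, 0, [], 0)).2.1 &&
    Nat.beq (CfsgLib.J4DCE.tImg (CfsgLib.J4DCE.pk (evW (ev2 ptX ptY) (ptStep.getD n (0, 0, [], 0)).2.2.1))
      CfsgLib.J4DCE.Top.cert.T0) (ptStep.getD n (0, 0, [], 0)).2.1 &&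
    Nat.beq (runM (ptStep.getD n (0, 0, [], 0)).2.2.1.reverse (ptStep.getD n (0, 0, [], 0)).2.2.2)
      (ptVecs.getD (ptStep.getD n (0, 0, [], 0)).1 0) &&
    Nat.beq (runM ([3] ++ (ptStep.getD n (0, 0, [], 0)).2.2.1.reverse) (ptStep.getD n (0, 0, [], 0)).2.2.2)
      (ptVecs.getD (n + 1) 0) &&
    Nat.blt (ptStep.getD n (0, 0, [], 0)).2.2.2 (2 ^ 112) && !(Nat.beq (ptVecs.getD (n + 1) 0) v0)

theorem steps_ok : (List.range 21).all stepOK = true := by decide +kernel

theorem vecs_lt : ptVecs.all (fun v => Nat.blt v (2 ^ 112)) = true := by decide +kernel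

theorem last_ok : (Nat.beq (ptVecs.getD 0 0) v0 &&
    Nat.beq (runM word21.reverse (ptVecs.getD 21 0)) v1) = true := by decide +kernel

end CfsgLib.J4Out
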