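import Cfsg.Agent.Lib.Presented.J4Out.Centralizers
import Cfsg.Agent.Lib.Presented.J4Out.PointsCheck
import Cfsg.Agent.Lib.J4DCE.Upper

/-!
The named points of the double coset enumeration as binary vectors: cosets of `2¹¹:M₂₄` are determined by
the images of the vector it fixes.
-/
set_option autoImplicit false
set_option maxRecDepth 20000

namespace CfsgLib.J4Out

open CfsgLib.Presented CfsgLib.J4Rep CfsgLib.J4Mult CfsgLib.Presented.J4M24 Cfsg Cfsg.Spor
open CfsgLib.J4DCE (Top.cert tau tau_eq)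
open CfsgLib.J4DCE.J (jemb jt subH cbase cpt smul_cbase smul_cbase_eq cover_all mem_subH jemb_X jemb_Y)

attribute [local irreducible] el emb pA pB CfsgLib.J4DCE.enc CfsgLib.J4DCE.pmask CfsgLib.J4DCE.tImg

theorem jemb_eq_emb : jemb = emb :=
  MonoidHom.eq_of_eqOn_dense CfsgLib.J4DCE.closure_gens (by
    rintro z (rfl | rfl)
    · exact jemb_X.trans emb_ptX.symm
    · exact jemb_Y.trans emb_ptY.symm)

theorem el_three : el 3 = jt := by unfold el; rfl

/-- the vector of a named point -/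
def vecP (j : ℕ) : Vec112 :=
  ⟨ptVecs.getD j 0, by
    by_cases hj : j < ptVecs.length
    · rw [List.getD_eq_getElem _ _ hj]
      have h := vecs_lt
      simp only [List.all_eq_true, Nat.blt_eq] at h
      exact h _ (List.getElem_mem hj)
    · rw [List.getD_eq_default _ _ (not_lt.1 hj)]
      exact Nat.two_pow_pos _⟩

theorem rep_emb_word {w : List ℕ} (hw : ∀ a ∈ w, a < 3) (v : Vec112) :
    (rep (emb ⟨evW (ev2 ptX ptY) w, evW2_mem w⟩) v).1 = runM w.reverse v.1 := by
  rw [emb_word w hw]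
  exact rep_evW_el (fun a ha => (hw a ha).trans (by norm_num)) v

theorem rep_Mgrp_vec0 {m : J4} (hm : m ∈ Mgrp) : rep m vec0 = vec0 := by
  unfold Mgrp at hm
  induction hm using Subgroup.closure_induction with
  | mem g hg =>
    rcases hg with rfl | rfl
    · rw [← el_zero]; exact rep_el_vec0 (by simp)
    · rw [← el_one]; exact rep_el_vec0 (by simp)
  | one => simp
  | mul g h _ _ hg hh => rw [map_mul, Equiv.Perm.mul_apply, hh, hg]
  | inv g _ hg => rw [map_inv, Equiv.Perm.inv_eq_iff_eq, hg]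

theorem subH_le_Hgrp : subH ≤ Hgrp := by
  rw [subH, Subgroup.closure_le]
  have hM : Mgrp ≤ Hgrp :=
    Subgroup.closure_mono (by rintro z (rfl | rfl) <;> simp)
  rintro z (⟨σ, rfl⟩ | rfl)
  · rw [jemb_eq_emb]; exact hM (emb_range ▸ ⟨σ, rfl⟩)
  · suffices CfsgLib.J4DCE.J.jw = el 6 by rw [this]; exact Subgroup.subset_closure (by simp)
    have hxi : jx⁻¹ = jx := inv_eq_of_mul_eq_one_right j_rels.1
    rw [el_node (n := 2) (by norm_num), CfsgLib.J4DCE.J.jw, CfsgLib.J4DCE.J.pv]
    simp only [map_mul, map_pow, map_inv, jemb_X, jemb_Y]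
    simp [prog, evW, el_zero, el_one, el_two, el_three, hxi, pow_succ, mul_assoc, mul_inv_rev]

theorem rep_Hgrp_vec0 {g : J4} (hg : g ∈ Hgrp) : rep g vec0 = vec0 := by
  unfold Hgrp at hg
  induction hg using Subgroup.closure_induction with
  | mem g hg =>
    rcases hg with rfl | rfl | rfl
    · rw [← el_zero]; exact rep_el_vec0 (by simp)
    · rw [← el_one]; exact rep_el_vec0 (by simp)
    · exact rep_el_vec0 (by simp)
  | one => simp
  | mul g h _ _ hg hh => rw [map_mul, Equiv.Perm.mul_apply, hh, hg]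
  | inv g _ hg => rw [map_inv, Equiv.Perm.inv_eq_iff_eq, hg]

theorem rep_eq_of_coset {g g' : J4} (h : g • cbase = g' • cbase) : rep g vec0 = rep g' vec0 := by
  have hm : g'⁻¹ * g ∈ subH := smul_cbase_eq.1 (by rw [mul_smul, h, inv_smul_smul])
  have := rep_Hgrp_vec0 (subH_le_Hgrp hm)
  rwa [map_mul, Equiv.Perm.mul_apply, map_inv, Equiv.Perm.inv_eq_iff_eq] at this

/-- Every named point has a representative carrying the first vector to its vector. -/
theorem exists_rep_point : ∀ j ≤ 21, ∃ g : J4, g • cbase = cpt j ∧ rep g vec0 = vecP j := by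
  intro j
  induction j using Nat.strong_induction_on with
  | _ j IH =>
    intro hj
    rcases Nat.eq_zero_or_eq_succ_pred j with rfl | hj0
    · refine ⟨1, ?_, ?_⟩
      · rw [one_smul, cpt, CfsgLib.J4DCE.Cert.pt_zero]
      · rw [map_one]
        have h := last_ok
        simp only [Bool.and_eq_true] at h
        exact Subtype.ext (Nat.eq_of_beq_eq_true h.1).symm
    · obtain ⟨n, rfl⟩ : ∃ n, j = n + 1 := ⟨j.pred, hj0⟩
      have h := List.all_eq_true.1 steps_ok n (List.mem_range.2 (by omega))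
      simp only [stepOK, Bool.and_eq_true, List.all_eq_true, Nat.blt_eq] at h
      obtain ⟨⟨⟨⟨⟨⟨⟨⟨hw, hi⟩, hfi⟩, hfr⟩, hT⟩, hmid⟩, hend⟩, hlt⟩, -⟩ := h
      have hfi := Nat.eq_of_beq_eq_true hfi
      obtain ⟨gi, hgi, hgiv⟩ := IH (ptStep.getD n (0, 0, [], 0)).1 hi (by omega)
      generalize hwd : (ptStep.getD n (0, 0, [], 0)).2.2.1 = w at hw hT hmid hend
      generalize hmd : (ptStep.getD n (0, 0, [], 0)).2.2.2 = u at hmid hend hlt
      generalize hrd : (ptStep.getD n (0, 0, [], 0)).2.1 = r at hfr hT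
      generalize hid : (ptStep.getD n (0, 0, [], 0)).1 = i at hi hfi hgi hgiv hmid
      let σ : M24 := ⟨evW (ev2 ptX ptY) w, evW2_mem w⟩
      have htau : tau jemb jt Top.cert.T0 r = jemb σ * jt * (jemb σ)⁻¹ :=
        tau_eq CfsgLib.J4DCE.J.top_interp.setting (σ := σ) (Nat.eq_of_beq_eq_true hT)
      refine ⟨jemb σ * jt * (jemb σ)⁻¹ * gi, ?_, ?_⟩
      · have hpt : cpt (n + 1) = tau jemb jt Top.cert.T0 r • cpt i := by
          conv_lhs => rw [cpt, CfsgLib.J4DCE.Cert.pt]
          rw [hfi, if_pos hi, Nat.eq_of_beq_eq_true hfr, cpt]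
        rw [hpt, htau, mul_smul, hgi]
      · rw [map_mul, Equiv.Perm.mul_apply, hgiv, map_mul, map_mul, Equiv.Perm.mul_apply,
          Equiv.Perm.mul_apply, map_inv]
        have h1 : rep (jemb σ) ⟨u, hlt⟩ = vecP i := by
          refine Subtype.ext ?_
          rw [jemb_eq_emb, rep_emb_word hw]
          exact Nat.eq_of_beq_eq_true hmid
        rw [← h1, Equiv.Perm.inv_def, Equiv.symm_apply_apply]
        refine Subtype.ext ?_
        have h2 := rep_evW_el (w := w ++ [3]) (fun a ha => by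
          rcases List.mem_append.1 ha with h | h
          · exact (hw a h).trans (by norm_num)
          · rw [List.mem_singleton.1 h]; norm_num) ⟨u, hlt⟩
        rw [evW_append, map_mul, Equiv.Perm.mul_apply, ← emb_word w hw, ← jemb_eq_emb] at h2
        simp only [evW_cons, evW_nil, mul_one, el_three, List.reverse_append, List.reverse_cons,
          List.reverse_nil, List.nil_append] at h2
        exact h2.trans (Nat.eq_of_beq_eq_true hend)

theorem live_le : ∀ l ∈ CfsgLib.J4DCE.Top.live, l ≤ 21 := by decide +kernel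

theorem vecP_ne {l : ℕ} (hl : l ≤ 21) (h0 : l ≠ 0) : vecP l ≠ vec0 := by
  intro h
  obtain ⟨n, rfl⟩ : ∃ n, l = n + 1 := ⟨l - 1, by omega⟩
  have hs := List.all_eq_true.1 steps_ok n (List.mem_range.2 (by omega))
  simp only [stepOK, Bool.and_eq_true, Bool.not_eq_true'] at hs
  have : ptVecs.getD (n + 1) 0 = v0 := congrArg Subtype.val h
  have h1 := hs.2
  rw [this, Nat.beq_refl] at h1
  exact Bool.noConfusion h1

/-- A coset and its vector as the image of a named point. -/
theorem exists_point (g : J4) : ∃ σ : M24, ∃ l ∈ CfsgLib.J4DCE.Top.live,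
    g • cbase = jemb σ • cpt l ∧ rep g vec0 = rep (jemb σ) (vecP l) := by
  obtain ⟨σ, l, hl, h⟩ := cover_all (g • cbase)
  obtain ⟨gl, hgl, hglv⟩ := exists_rep_point l (live_le l hl)
  refine ⟨σ, l, hl, h, ?_⟩
  rw [← hglv, ← Equiv.Perm.mul_apply, ← map_mul]
  exact rep_eq_of_coset (by rw [h, mul_smul, hgl])

/-- The stabiliser of the first vector is `2¹¹:M₂₄`. -/
theorem mem_subH_of_fix {g : J4} (h : rep g vec0 = vec0) : g ∈ subH := by
  obtain ⟨σ, l, hl, hc, hv⟩ := exists_point g
  have hl0 : l = 0 := by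
    by_contra h0
    refine vecP_ne (live_le l hl) h0 ((rep (jemb σ)).injective ?_)
    rw [← hv, h, jemb_eq_emb, rep_Mgrp_vec0 (emb_range ▸ ⟨σ, rfl⟩)]
  subst hl0
  refine smul_cbase_eq.1 ?_
  rw [hc, cpt, CfsgLib.J4DCE.Cert.pt_zero, smul_cbase_eq.2 (CfsgLib.J4DCE.J.jemb_mem σ)]

theorem coset_eq_of_rep {g g' : J4} (h : rep g vec0 = rep g' vec0) : g • cbase = g' • cbase := by
  have : g'⁻¹ * g ∈ subH :=
    mem_subH_of_fix (by rw [map_mul, Equiv.Perm.mul_apply, h, map_inv, Equiv.Perm.inv_def,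
      Equiv.symm_apply_apply])
  have h2 := smul_cbase_eq.2 this
  rw [mul_smul, inv_smul_eq_iff] at h2
  exact h2

end CfsgLib.J4Out
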