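import Cfsg.Agent.Lib.Presented.J4Out.Elements
import Cfsg.Agent.Lib.Presented.J4Out.Mathieu

/-!
The subgroup `2¹¹:M₂₄` of the presented fourth Janko group, and the centralisers in it of the named elements
of order 23 and 11.
-/
set_option autoImplicit false
set_option maxRecDepth 20000

namespace CfsgLib.J4Out

open CfsgLib.Presented CfsgLib.J4Rep CfsgLib.J4Mult CfsgLib.Presented.J4M24 Cfsg Cfsg.Spor

/-- the normal subgroup of order `2 ^ 11` -/
noncomputable def Egrp : Subgroup J4 := Subgroup.closure (el '' Set.Icc 6 16)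

/-- the copy of the Mathieu group -/
noncomputable def Mgrp : Subgroup J4 := Subgroup.closure {jx, jy}

theorem el_zero : el 0 = jx := rfl
theorem el_one : el 1 = jy := rfl
theorem el_two : el 2 = jy⁻¹ := rfl

theorem el_mem_Egrp {k : ℕ} (h1 : 6 ≤ k) (h2 : k ≤ 16) : el k ∈ Egrp :=
  Subgroup.subset_closure ⟨k, ⟨h1, h2⟩, rfl⟩

theorem evW_mem_Egrp {w : List ℕ} (h : ∀ a ∈ w, 6 ≤ a ∧ a ≤ 16) : evW el w ∈ Egrp := by
  induction w with
  | nil => exact one_mem _
  | cons a w ih =>
    rw [evW_cons]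
    exact mul_mem (el_mem_Egrp (h a List.mem_cons_self).1 (h a List.mem_cons_self).2)
      (ih fun b hb => h b (List.mem_cons_of_mem _ hb))

theorem mem_range6 {i : ℕ} (h1 : 6 ≤ i) (h2 : i ≤ 16) : i ∈ List.range' 6 11 :=
  List.mem_range'.2 ⟨i - 6, by omega, by omega⟩

theorem Egrp_comm (hs : IsSimpleGroup J4) {u v : J4} (hu : u ∈ Egrp) (hv : v ∈ Egrp) :
    u * v = v * u := by
  have hk : ∀ i ∈ List.range' 6 11, ∀ j ∈ List.range' 6 11, i < j → ([i, j], [j, i]) ∈ eqs := by
    decide +kernel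
  have hcomm : ∀ i j, i ∈ Set.Icc 6 16 → j ∈ Set.Icc 6 16 → i < j → el i * el j = el j * el i := by
    intro i j hi hj hij
    simp only [Set.mem_Icc] at hi hj
    simpa [evW] using el_eq hs (hk i (mem_range6 hi.1 hi.2)
      j (mem_range6 hj.1 hj.2) hij)
  have hle : Egrp ≤ Subgroup.centralizer (Egrp : Set J4) := by
    rw [Egrp, Subgroup.closure_le]
    rintro _ ⟨i, hi, rfl⟩
    rw [SetLike.mem_coe, Subgroup.mem_centralizer_iff]
    have : ∀ g ∈ Subgroup.closure (el '' Set.Icc 6 16), g * el i = el i * g := by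
      intro g hg
      induction hg using Subgroup.closure_induction with
      | mem g hg =>
        obtain ⟨j, hj, rfl⟩ := hg
        rcases lt_trichotomy i j with h | h | h
        · exact (hcomm i j hi hj h).symm
        · rw [h]
        · exact hcomm j i hj hi h
      | one => simp
      | mul g h _ _ hg hh => rw [mul_assoc, hh, ← mul_assoc, hg, mul_assoc]
      | inv g _ hg => exact ((show Commute g (el i) from hg).inv_left).eq
    exact this
  exact (Subgroup.mem_centralizer_iff.1 (hle hv) u hu)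

theorem Egrp_sq (hs : IsSimpleGroup J4) {u : J4} (hu : u ∈ Egrp) : u * u = 1 := by
  have hk : ∀ i ∈ List.range' 6 11, ([i, i], []) ∈ eqs := by decide +kernel
  unfold Egrp at hu
  induction hu using Subgroup.closure_induction with
  | mem g hg =>
    obtain ⟨j, hj, rfl⟩ := hg
    simp only [Set.mem_Icc] at hj
    simpa [evW] using el_eq hs (hk j (mem_range6 hj.1 hj.2))
  | one => simp
  | mul g h hg' hh' hg hh =>
    rw [mul_assoc, ← mul_assoc h, Egrp_comm hs hh' hg', mul_assoc g h, hh, mul_one, hg]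
  | inv g _ hg => rw [← mul_inv_rev, hg, inv_one]

theorem jy_cube : jy * jy * jy = 1 := by
  have := j_rels.2 [1, 1, 1] (by decide)
  simpa [evW, ev2, mul_assoc] using this

theorem conj_mem_Egrp (hs : IsSimpleGroup J4) {m : J4} (hm : m ∈ Mgrp) :
    ∀ e ∈ Egrp, m * e * m⁻¹ ∈ Egrp ∧ m⁻¹ * e * m ∈ Egrp := by
  have hx : ∀ i ∈ List.range' 6 11, ∃ p ∈ eqs, p.1 = [0, i, 0] ∧ ∀ a ∈ p.2, 6 ≤ a ∧ a ≤ 16 := by
    decide +kernel
  have hy : ∀ i ∈ List.range' 6 11, ∃ p ∈ eqs, p.1 = [1, i, 2] ∧ ∀ a ∈ p.2, 6 ≤ a ∧ a ≤ 16 := by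
    decide +kernel
  have hxi : jx⁻¹ = jx := inv_eq_of_mul_eq_one_right j_rels.1
  have gx : ∀ e ∈ Egrp, jx * e * jx⁻¹ ∈ Egrp := by
    intro e he
    have hle : Egrp ≤ Egrp.comap (MulAut.conj jx).toMonoidHom := by
      rw [Egrp, Subgroup.closure_le]
      rintro _ ⟨i, hi, rfl⟩
      simp only [Set.mem_Icc] at hi
      obtain ⟨p, hp, h1, h2⟩ := hx i (mem_range6 hi.1 hi.2)
      have he := el_eq hs hp
      rw [h1] at he
      simp only [SetLike.mem_coe, Subgroup.mem_comap, MulEquiv.coe_toMonoidHom, MulAut.conj_apply]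
      have : jx * el i * jx⁻¹ = evW el p.2 := by
        rw [hxi, ← he]; simp [evW, el_zero, mul_assoc]
      rw [this]
      exact evW_mem_Egrp h2
    simpa using hle he
  have gy : ∀ e ∈ Egrp, jy * e * jy⁻¹ ∈ Egrp := by
    intro e he
    have hle : Egrp ≤ Egrp.comap (MulAut.conj jy).toMonoidHom := by
      rw [Egrp, Subgroup.closure_le]
      rintro _ ⟨i, hi, rfl⟩
      simp only [Set.mem_Icc] at hi
      obtain ⟨p, hp, h1, h2⟩ := hy i (mem_range6 hi.1 hi.2)
      have he := el_eq hs hp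
      rw [h1] at he
      simp only [SetLike.mem_coe, Subgroup.mem_comap, MulEquiv.coe_toMonoidHom, MulAut.conj_apply]
      have : jy * el i * jy⁻¹ = evW el p.2 := by
        rw [← he]; simp [evW, el_one, el_two, mul_assoc]
      rw [this]
      exact evW_mem_Egrp h2
    simpa using hle he
  unfold Mgrp at hm
  induction hm using Subgroup.closure_induction with
  | mem g hg =>
    intro e he
    rcases hg with rfl | rfl
    · exact ⟨gx e he, by have := gx e he; rwa [hxi] at this ⊢⟩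
    · refine ⟨gy e he, ?_⟩
      have h2 := gy _ (gy e he)
      have hi : jy⁻¹ = jy * jy := inv_eq_of_mul_eq_one_right (by rw [← mul_assoc]; exact jy_cube)
      have : jy⁻¹ * e * jy = jy * (jy * e * jy⁻¹) * jy⁻¹ := by
        conv_rhs => rw [show jy * (jy * e * jy⁻¹) * jy⁻¹ = (jy * jy) * e * (jy * jy)⁻¹ by group, ← hi,
          inv_inv]
      rwa [this]
  | one => intro e he; simp [he]
  | mul g h _ _ hg hh =>
    intro e he
    constructor
    · have := (hg _ (hh e he).1).1
      simpa [mul_assoc] using this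
    · have := (hh _ (hg e he).2).2
      simpa [mul_assoc] using this
  | inv g _ hg =>
    intro e he
    simpa [and_comm] using hg e he

/-- The subgroup generated by `x`, `y` and the first basis element. -/
noncomputable def Hgrp : Subgroup J4 := Subgroup.closure {jx, jy, el 6}

theorem Hgrp_decomp (hs : IsSimpleGroup J4) {g : J4} (hg : g ∈ Hgrp) :
    ∃ e ∈ Egrp, ∃ m ∈ Mgrp, g = e * m := by
  unfold Hgrp at hg
  induction hg using Subgroup.closure_induction with
  | mem g hg =>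
    rcases hg with rfl | rfl | rfl
    · exact ⟨1, one_mem _, jx, Subgroup.subset_closure (by simp), by simp⟩
    · exact ⟨1, one_mem _, jy, Subgroup.subset_closure (by simp), by simp⟩
    · exact ⟨el 6, el_mem_Egrp le_rfl (by norm_num), 1, one_mem _, by simp⟩
  | one => exact ⟨1, one_mem _, 1, one_mem _, by simp⟩
  | mul g h _ _ hg hh =>
    obtain ⟨e, he, m, hm, rfl⟩ := hg
    obtain ⟨e', he', m', hm', rfl⟩ := hh
    exact ⟨e * (m * e' * m⁻¹), mul_mem he (conj_mem_Egrp hs hm e' he').1, m * m', mul_mem hm hm',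
      by group⟩
  | inv g _ hg =>
    obtain ⟨e, he, m, hm, rfl⟩ := hg
    exact ⟨m⁻¹ * e⁻¹ * m, (conj_mem_Egrp hs hm _ (inv_mem he)).2, m⁻¹, inv_mem hm, by group⟩

/-- The embedding of the permutation group. -/
noncomputable def emb : M24 →* J4 := exists_embedding.choose

theorem emb_injective : Function.Injective emb := exists_embedding.choose_spec.1
theorem emb_ptX : emb ⟨ptX, ptX_mem⟩ = jx := exists_embedding.choose_spec.2.1
theorem emb_ptY : emb ⟨ptY, ptY_mem⟩ = jy := exists_embedding.choose_spec.2.2.1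
theorem emb_range : emb.range = Mgrp := exists_embedding.choose_spec.2.2.2

theorem emb_word : ∀ w : List ℕ, (∀ a ∈ w, a < 3) →
    emb ⟨evW (ev2 ptX ptY) w, evW2_mem w⟩ = evW el w
  | [], _ => by
    have : (⟨evW (ev2 ptX ptY) [], evW2_mem []⟩ : M24) = 1 := rfl
    rw [this, map_one, evW_nil]
  | a :: w, h => by
    have ha := h a List.mem_cons_self
    have hm : ev2 ptX ptY a ∈ M24 := by
      have := evW2_mem [a]; simpa [evW] using this
    have : (⟨evW (ev2 ptX ptY) (a :: w), evW2_mem (a :: w)⟩ : M24) =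
        ⟨ev2 ptX ptY a, hm⟩ * ⟨evW (ev2 ptX ptY) w, evW2_mem w⟩ := Subtype.ext (evW_cons _ _ _)
    rw [this, map_mul, emb_word w fun b hb => h b (List.mem_cons_of_mem _ hb), evW_cons]
    congr 1
    obtain rfl | rfl | rfl : a = 0 ∨ a = 1 ∨ a = 2 := by omega
    · exact emb_ptX.trans el_zero.symm
    · exact emb_ptY.trans el_one.symm
    · have : (⟨ev2 ptX ptY 2, hm⟩ : M24) = (⟨ptY, ptY_mem⟩)⁻¹ := rfl
      rw [this, map_inv, emb_ptY, el_two]

theorem el_four : el 4 = emb ⟨pA, pA_mem⟩ := by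
  refine (el_node (n := 0) (by norm_num)).trans ?_
  exact (emb_word _ (by decide)).symm

theorem el_five : el 5 = emb ⟨pB, pB_mem⟩ := by
  refine (el_node (n := 1) (by norm_num)).trans ?_
  exact (emb_word _ (by decide)).symm

theorem eq_one_of_mem_both (hs : IsSimpleGroup J4) {g : J4} (hE : g ∈ Egrp) (hM : g ∈ Mgrp) :
    g = 1 := by
  have : IsSimpleGroup M24 := CfsgLib.Golay.isSimpleGroup_M24
  have hn : (Egrp.comap emb).Normal := ⟨fun n hn m => by
    rw [Subgroup.mem_comap, map_mul, map_mul, map_inv]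
    exact (conj_mem_Egrp hs (emb_range ▸ ⟨m, rfl⟩) _ hn).1⟩
  rcases hn.eq_bot_or_eq_top with h | h
  · rw [← emb_range] at hM
    obtain ⟨σ, rfl⟩ := hM
    have : σ ∈ Egrp.comap emb := hE
    rw [h, Subgroup.mem_bot] at this
    rw [this, map_one]
  · exfalso
    have hx : (⟨ptX, ptX_mem⟩ : M24) ∈ Egrp.comap emb := h ▸ Subgroup.mem_top _
    have hy : (⟨ptY, ptY_mem⟩ : M24) ∈ Egrp.comap emb := h ▸ Subgroup.mem_top _
    have := emb_injective ((map_mul emb _ _).trans ((Egrp_comm hs hx hy).trans (map_mul emb _ _).symm))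
    exact ptX_ptY_ne (congrArg Subtype.val this)

/-- The norm of an element of `Egrp` along the powers of `a`. -/
theorem norm_mem (hs : IsSimpleGroup J4) {a : J4} (ha : a ∈ Mgrp) {n : ℕ} (han : a ^ n = 1)
    {T : Subgroup J4} (hgen : ∀ k, 6 ≤ k → k ≤ 16 → (el k * a) ^ n ∈ T) {e : J4} (he : e ∈ Egrp) :
    (e * a) ^ n ∈ T := by
  have key : ∀ m : ℕ, ∀ u ∈ Egrp, (u * a) ^ m * (a ^ m)⁻¹ ∈ Egrp ∧ ∀ v ∈ Egrp,
      (u * v * a) ^ m * (a ^ m)⁻¹ = (u * a) ^ m * (a ^ m)⁻¹ * ((v * a) ^ m * (a ^ m)⁻¹) := by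
    intro m
    induction m with
    | zero => intro u _; simp
    | succ m ih =>
      have hstep : ∀ u : J4, (u * a) ^ (m + 1) * (a ^ (m + 1))⁻¹ =
          u * (a * ((u * a) ^ m * (a ^ m)⁻¹) * a⁻¹) := fun u => by
        rw [pow_succ' (u * a), pow_succ' a]; group
      intro u hu
      refine ⟨?_, fun v hv => ?_⟩
      · rw [hstep]
        exact mul_mem hu (conj_mem_Egrp hs ha _ (ih u hu).1).1
      · rw [hstep, hstep, hstep, (ih u hu).2 v hv]
        set P := (u * a) ^ m * (a ^ m)⁻¹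
        set Q := (v * a) ^ m * (a ^ m)⁻¹
        have hc := Egrp_comm hs hv (conj_mem_Egrp hs ha P (ih u hu).1).1
        calc u * v * (a * (P * Q) * a⁻¹) = u * (v * (a * P * a⁻¹)) * (a * Q * a⁻¹) := by group
          _ = u * (a * P * a⁻¹) * (v * (a * Q * a⁻¹)) := by rw [hc]; group
  have hval : ∀ u, (u * a) ^ n * (a ^ n)⁻¹ = (u * a) ^ n := fun u => by rw [han, inv_one, mul_one]
  have hmul : ∀ u ∈ Egrp, ∀ v ∈ Egrp, (u * v * a) ^ n = (u * a) ^ n * (v * a) ^ n := fun u hu v hv => by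
    have := (key n u hu).2 v hv
    rwa [hval, hval, hval] at this
  unfold Egrp at he
  induction he using Subgroup.closure_induction with
  | mem g hg =>
    obtain ⟨k, hk, rfl⟩ := hg
    exact hgen k hk.1 hk.2
  | one => rw [one_mul, han]; exact one_mem T
  | mul g h hg' hh' hg hh => rw [hmul g hg' h hh']; exact mul_mem hg hh
  | inv g hg' hg => rwa [inv_eq_of_mul_eq_one_right (Egrp_sq hs hg')]

/-- An element of `Egrp` commuting with `a` of odd exponent is its own norm. -/
theorem eq_norm (hs : IsSimpleGroup J4) {a e : J4} (he : e ∈ Egrp) {n : ℕ} (hn : Odd n)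
    (han : a ^ n = 1) (hc : Commute e a) : (e * a) ^ n = e := by
  obtain ⟨r, rfl⟩ := hn
  rw [hc.mul_pow, han, mul_one, pow_succ, pow_mul, pow_two, Egrp_sq hs he, one_pow, one_mul]

end CfsgLib.J4Out
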